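import Groth.Agent.Lib.RadBC15.Reductive
import Groth.Agent.Lib.SAQuot15.Main
import Groth.Agent.Lib.SepAff15.Largest
import Groth.Agent.Lib.AffPart25.Perfect
import Groth.Agent.Lib.AffPart25.Smallest
import Groth.Agent.Lib.Semiab15.Ext
import Groth.Agent.Lib.UInvFG21.Torus
import Groth.Agent.Lib.TorPts21.SemisimpleField
import Groth.Agent.Lib.TorPts21.StructureField

/-!
# The quotient by the unipotent radical and the derived subgroup is semi-abelian
-/

set_option autoImplicit false
set_option linter.style.haveILetI false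
set_option backward.isDefEq.respectTransparency false
set_option backward.isDefEq.respectTransparency.types false
set_option maxSynthPendingDepth 3
set_option synthInstance.maxHeartbeats 400000
universe u

open CategoryTheory CategoryTheory.Limits MonoidalCategory CartesianMonoidalCategory MonObj AlgebraicGeometry
open Groth.Agent Groth.Agent.DiagGL Groth.Agent.MTRigid29

noncomputable section

namespace Groth.Agent.RadBC15

variable {k : Type u} [Field k]

local notation "π₀" => Spec.map (CommRingCat.ofHom (algebraMap k (AlgebraicClosure k)))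

/-- Semi-abelian groups are commutative. -/
theorem isCommMonObj_of_SA {Q : Over (Spec (CommRingCat.of k))} [GrpObj Q] [LocallyOfFiniteType Q.hom]
    [QuasiCompact Q.hom] (hQ : SAQuot15.IsSAExt Q) : IsCommMonObj Q := by
  obtain ⟨T, _, t, A, _, p, ht, htc, hT, hp, hps, hpf, hk, hAp, hAs, hAc⟩ := hQ
  haveI := ht; haveI := htc; haveI := hp; haveI := hps; haveI := hpf; haveI := hAp; haveI := hAs; haveI := hAc
  haveI := Semiab15.isCommMonObj_of_isProper A
  exact TorusSlice15.isCommMonObj t p hk hT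

/-- A quotient in which all commutators die is commutative. -/
theorem isCommMonObj_of_quot {G Q : Over (Spec (CommRingCat.of k))} [GrpObj G] [GrpObj Q] (q : G ⟶ Q) [IsMonHom q]
    [Flat q.left] [Surjective q.left] [QuasiCompact q.left]
    (h : ∀ (W : Over (Spec (CommRingCat.of k))) (a b : W ⟶ G), (a * b * a⁻¹ * b⁻¹) ≫ q = 1) : IsCommMonObj Q := by
  haveI : Flat (q ⊗ₘ q).left ∧ Surjective (q ⊗ₘ q).left ∧ QuasiCompact (q ⊗ₘ q).left := by
    rw [MonoidalCategory.tensorHom_def, Over.comp_left]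
    have h1 := (AbRigid.isPullback_whiskerRight q G).map (Over.forget _)
    have h2 := (AbRigid.isPullback_whiskerLeft q Q).map (Over.forget _)
    haveI : Surjective (q ▷ G).left := MorphismProperty.of_isPullback h1 ‹Surjective q.left›
    haveI : Flat (q ▷ G).left := MorphismProperty.of_isPullback h1 ‹Flat q.left›
    haveI : QuasiCompact (q ▷ G).left := MorphismProperty.of_isPullback h1 ‹QuasiCompact q.left›
    haveI : Surjective (Q ◁ q).left := MorphismProperty.of_isPullback h2 ‹Surjective q.left›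
    haveI : Flat (Q ◁ q).left := MorphismProperty.of_isPullback h2 ‹Flat q.left›
    haveI : QuasiCompact (Q ◁ q).left := MorphismProperty.of_isPullback h2 ‹QuasiCompact q.left›
    exact ⟨inferInstance, inferInstance, inferInstance⟩
  obtain ⟨h1, h2, h3⟩ := this
  haveI := h1; haveI := h2; haveI := h3
  haveI := AlgGrpBasic19.epi_of_cover (q ⊗ₘ q)
  have hc : fst Q Q * snd Q Q = snd Q Q * fst Q Q := by
    rw [← cancel_epi (q ⊗ₘ q), MonObj.comp_mul, MonObj.comp_mul, tensorHom_fst, tensorHom_snd, ← MonObj.mul_comp,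
      ← MonObj.mul_comp]
    have := h _ (fst G G) (snd G G)
    rw [show fst G G * snd G G * (fst G G)⁻¹ * (snd G G)⁻¹ = (fst G G * snd G G) * (snd G G * fst G G)⁻¹ by group,
      MonObj.mul_comp, GrpObj.inv_comp, mul_inv_eq_one] at this
    exact this
  refine ⟨?_⟩
  rw [MonObj.mul_eq_mul, MonObj.comp_mul, braiding_hom_fst, braiding_hom_snd]
  exact hc.symm

/-- A unipotent group is its own unipotent radical. -/
theorem isUnipotentRadical_id {K : Type u} [Field K] [IsAlgClosed K] (U : Over (Spec (CommRingCat.of K))) [GrpObj U]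
    [Smooth U.hom] [QuasiCompact U.hom] [ConnectedSpace U.left] (hU : Red.HasNoSubtorus K U) :
    Par.IsUnipotentRadical (𝟙 U) := by
  haveI : IsClosedImmersion (𝟙 U : U ⟶ U).left := inferInstanceAs (IsClosedImmersion (𝟙 U.left))
  exact (TorPts21.isUnipotentRadical_iff _).2 ⟨inferInstance, inferInstance,
    fun T g n => ⟨g * n * g⁻¹, by rw [Category.comp_id, Category.comp_id]⟩, inferInstance, inferInstance,
    inferInstance, hU, fun V _ v _ _ _ _ _ _ _ => ⟨v, Category.comp_id v⟩⟩

/-- The unipotent radical maps trivially to semi-abelian groups. -/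
theorem comp_eq_one [PerfectField k] {N R Q : Over (Spec (CommRingCat.of k))} [GrpObj N] [GrpObj R] [GrpObj Q]
    [IsAffine N.left] [Smooth N.hom] [ConnectedSpace N.left] {u : R ⟶ N} (hR : Par.IsUnipotentRadical u)
    [LocallyOfFiniteType Q.hom] [QuasiCompact Q.hom] (hQ : SAQuot15.IsSAExt Q) (f : R ⟶ Q) [IsMonHom f] : f = 1 := by
  let K := AlgebraicClosure k
  let P := Over.pullback π₀
  obtain ⟨hm, hc, hn, hs, hq, hcon, hns, -⟩ := (TorPts21.isUnipotentRadical_iff _).1 (radical_bc hR)
  haveI := hm; haveI := hc; haveI := hs; haveI := hq; haveI := hcon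
  haveI : IsAffine (Red.bc π₀ N).left := BorelFix21.isAffine_bc π₀ N
  haveI : IsAffine (Red.bc π₀ R).left := isAffine_of_isAffineHom (P.map u).left
  haveI : LocallyOfFiniteType (Red.bc π₀ Q).hom := inferInstanceAs (LocallyOfFiniteType (pullback.snd Q.hom π₀))
  haveI : QuasiCompact (Red.bc π₀ Q).hom := inferInstanceAs (QuasiCompact (pullback.snd Q.hom π₀))
  obtain ⟨H, _, j, g, hj, hjc, hgm, hgf, hgs, hgq, hgj, hHs, hHc, hHa⟩ := SepAff15.exists_affine_image' (P.map f)
  haveI := hj; haveI := hjc; haveI := hgm; haveI := hgs; haveI := hHs; haveI := hHc; haveI := hHa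
  haveI : Mono j := Over.mono_of_mono_left j
  have hH : Red.IsTorus H := AffLine15.isTorus_of_const H fun f₀ => (cancel_mono j).1 (by
    rw [Category.assoc, Category.assoc]
    exact SAQuot15.const_bc π₀ hQ (f₀ ≫ j))
  obtain ⟨U', _, u', hU', -⟩ := TorPts21.exists_unipotentRadical_connected H
  obtain ⟨v, hv, -⟩ := TorPts21.exists_image_radical g (isUnipotentRadical_id _ hns) hU'
  obtain ⟨hum', huc', hun', hus', -, hucn', huns', -⟩ := (TorPts21.isUnipotentRadical_iff u').1 hU'
  haveI := hum'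
  haveI : IsIso U'.hom := (UInvFG21.isReductiveOver_torus hH).2.2.2 U' u' huc' hus' hucn' hun' huns'
  have hv1 : v = 1 := Over.OverMorphism.ext ((cancel_mono U'.hom).1 (by rw [Over.w, Over.w]))
  have hg : g = 1 := by
    have h := hv.symm
    rw [Category.id_comp, hv1, MonObj.one_comp] at h
    exact h
  refine TorPts21.eq_of_bc π₀ f 1 ?_
  rw [Functor.map_one, ← hgj, hg, MonObj.one_comp]

/-- The quotient of `G` by `R_u(N)` and `[G, G]` is semi-abelian, and its kernel has the expected points. -/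
theorem exists_quot_SA [PerfectField k] (G : Over (Spec (CommRingCat.of k))) [GrpObj G] [Smooth G.hom]
    [QuasiCompact G.hom] [ConnectedSpace G.left] {N : Over (Spec (CommRingCat.of k))} [GrpObj N] (i : N ⟶ G)
    [IsMonHom i] [Smooth N.hom] [IsAffine N.left] [ConnectedSpace N.left]
    (hNmax : ∀ (N₁ : Over (Spec (CommRingCat.of k))) [GrpObj N₁] (i₁ : N₁ ⟶ G) [IsMonHom i₁] [IsClosedImmersion i₁.left],
      Smooth N₁.hom → IsAffine N₁.left → ConnectedSpace ↥N₁.left → ∃ f : N₁ ⟶ N, f ≫ i = i₁)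
    {R : Over (Spec (CommRingCat.of k))} [GrpObj R] {u : R ⟶ N} (hR : Par.IsUnipotentRadical u)
    {D : Over (Spec (CommRingCat.of k))} [GrpObj D] (d : D ⟶ G) [IsMonHom d] [IsClosedImmersion d.left]
    (hDn : AlgGrp.IsNormalHom d)
    (hD : ∀ (T : Over (Spec (CommRingCat.of k))) (g g' : T ⟶ G), ∃ m : T ⟶ D, g * g' * g⁻¹ * g'⁻¹ = m ≫ d) :
    ∃ (Q' : Over (Spec (CommRingCat.of k))) (_ : GrpObj Q') (q' : G ⟶ Q'), IsMonHom q' ∧
      Surjective q'.left ∧ Flat q'.left ∧ LocallyOfFiniteType Q'.hom ∧ QuasiCompact Q'.hom ∧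
      SAQuot15.IsSAExt Q' ∧ ∀ (W : Over (Spec (CommRingCat.of k))) (x : W ⟶ G), x ≫ q' = 1 →
        ∃ (W' : Over (Spec (CommRingCat.of k))) (p : W' ⟶ W) (z : W' ⟶ R) (w : W' ⟶ D), Surjective p.left ∧
          LocallyOfFiniteType p.left ∧ p ≫ x = (z ≫ u ≫ i) * (w ≫ d) := by
  obtain ⟨hum, huc, hun, hus, huq, hufib, -⟩ := id hR
  haveI := hum; haveI := huc; haveI := hus
  haveI : IsAffine R.left := isAffine_of_isAffineHom u.left
  haveI : ConnectedSpace R.left := by
    let s : ↥(Spec (CommRingCat.of k)) := IsLocalRing.closedPoint k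
    haveI : Surjective (Red.geomPt s) := ⟨fun z => ⟨IsLocalRing.closedPoint _, Subsingleton.elim (α := PrimeSpectrum k) _ _⟩⟩
    exact TorPts21.connectedSpace_of_bc (Red.geomPt s) (hufib s).1
  obtain ⟨Q₀, _, q₀, hq₀, hq₀f, hq₀s, hq₀q, hq₀p, hk₀, hQ₀l, hQ₀q⟩ := AffPart25.exists_quotient_any d hDn
  haveI := hq₀; haveI := hq₀f; haveI := hq₀s; haveI := hq₀q; haveI := hQ₀l; haveI := hQ₀q
  haveI : Smooth Q₀.hom := AffQuot19.smooth_target G Q₀ q₀
  haveI : ConnectedSpace Q₀.left := q₀.left.surjective.connectedSpace q₀.left.continuous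
  have hd₀ : d ≫ q₀ = 1 := hk₀.w.trans Hom.one_def.symm
  haveI : IsCommMonObj Q₀ := isCommMonObj_of_quot q₀ fun W a b => by
    obtain ⟨m, hm⟩ := hD W a b
    rw [hm, Category.assoc, hd₀, MonObj.comp_one]
  obtain ⟨R₀, _, j, g, hj, hjc, hgm, hgf, hgs, hgq, hgj, hR₀s, hR₀c, hR₀a⟩ :=
    SepAff15.exists_affine_image' (u ≫ i ≫ q₀)
  haveI := hj; haveI := hjc; haveI := hgs
  have hjn : AlgGrp.IsNormalHom j := fun T a b => ⟨b, by
    letI := Hom.commMonoid (M := Q₀) (X := T)
    rw [_root_.mul_comm a, mul_inv_cancel_right]⟩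
  obtain ⟨Q', _, q₁, hq₁, hq₁f, hq₁s, hq₁q, hq₁p, hk₁, hQ'l, hQ'q⟩ := AffPart25.exists_quotient_any j hjn
  haveI := hq₁; haveI := hq₁f; haveI := hq₁s; haveI := hq₁q; haveI := hQ'l; haveI := hQ'q
  haveI : Smooth Q'.hom := AffQuot19.smooth_target Q₀ Q' q₁
  haveI : ConnectedSpace Q'.left := q₁.left.surjective.connectedSpace q₁.left.continuous
  have hj₁ : j ≫ q₁ = 1 := hk₁.w.trans Hom.one_def.symm
  let q' : G ⟶ Q' := q₀ ≫ q₁
  haveI : Surjective q'.left := by show Surjective (q₀.left ≫ q₁.left); infer_instance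
  haveI : IsCommMonObj Q' := isCommMonObj_of_quot q₁ fun W a b => by
    letI := Hom.commMonoid (M := Q₀) (X := W)
    rw [_root_.mul_comm a b, mul_inv_cancel_right, mul_inv_cancel, MonObj.one_comp]
  haveI : Flat q'.left := by show Flat (q₀.left ≫ q₁.left); infer_instance
  refine ⟨Q', inferInstance, q', inferInstance, inferInstance, inferInstance, inferInstance, inferInstance, ?_, fun W x hx => ?_⟩
  · -- the image of `N` is a torus
    obtain ⟨T, _, j', g', hj', hj'c, hg'm, hg'f, hg's, hg'q, hg'j, hTs, hTc, hTa⟩ :=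
      SepAff15.exists_affine_image' (i ≫ q')
    haveI := hj'; haveI := hj'c; haveI := hg'm; haveI := hg's; haveI := hTs; haveI := hTc; haveI := hTa
    haveI : Mono j' := Over.mono_of_mono_left j'
    have hu1 : u ≫ g' = 1 := by
      rw [← cancel_mono j', Category.assoc, hg'j, MonObj.one_comp]
      simp only [q', ← Category.assoc]
      rw [Category.assoc u i, ← hgj, Category.assoc, hj₁, MonObj.comp_one]
    have hred := isReductiveOver_of_killed hR g' hu1
    haveI : IsCommMonObj T := AbelGrp20.isCommMonObj_of_mono j'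
    haveI : ConnectedSpace (Red.bc π₀ T).left := BorelFix21.connectedSpace_bc π₀ T
    haveI : IsAffine (Red.bc π₀ T).left := BorelFix21.isAffine_bc π₀ T
    haveI : Smooth (Red.bc π₀ T).hom := BorelFix21.smooth_bc π₀ T
    have hT : Red.IsTorus T := TorPts21.isTorus_of_bc π₀ (TorPts21.isTorus_of_solvable_reductive hred
      (TorPts21.isSolvableGrp_of_comm _ fun X a b => TorPts21.mul_comm_bc π₀ a b))
    obtain ⟨L, _, l, A, _, qA, hl, hlc, hLa, hLs, hLn, hLnn, hqA, hqAs, hqAf, hkA, hAp, hAs, hAc⟩ :=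
      AffPart25.exists_chevalley_perfect G
    haveI := hl; haveI := hlc; haveI := hqA; haveI := hqAs; haveI := hqAf; haveI := hAp; haveI := hAs; haveI := hAc
    haveI : QuasiCompact qA.left := AlgGrpBasic19.quasiCompact_left qA
    obtain ⟨fL, hfL⟩ := hNmax L l hLs hLa hLn
    refine Semiab15.isSA_of_torus (A := A) hT j' fun P _ p _ _ hp => ?_
    haveI : IsMonHom (q' ≫ p) := inferInstance
    obtain ⟨v, hv, -⟩ := AffPart25.exists_desc_hom l qA hkA (q' ≫ p) (by
      rw [← hfL, Category.assoc, ← Category.assoc i, ← hg'j, Category.assoc, hp, MonObj.comp_one, MonObj.comp_one])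
    haveI : Surjective (qA.left ≫ v.left) := by rw [← Over.comp_left, hv, Over.comp_left]; infer_instance
    exact ⟨v, Surjective.of_comp qA.left v.left⟩
  · -- points of the kernel
    obtain ⟨y, hy, -⟩ := hk₁.exists_lift (x ≫ q₀) (toUnit W) (by
      rw [Category.assoc]; exact hx.trans Hom.one_def)
    let W' := pullback y g
    let p : W' ⟶ W := pullback.fst y g
    let z : W' ⟶ R := pullback.snd y g
    haveI : Surjective p.left :=
      MorphismProperty.of_isPullback ((IsPullback.of_hasPullback y g).map (Over.forget _)).flip ‹Surjective g.left›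
    have hz : (p ≫ x) ≫ q₀ = (z ≫ u ≫ i) ≫ q₀ := by
      rw [Category.assoc, ← hy, ← Category.assoc, pullback.condition, Category.assoc, hgj]
      simp only [z, Category.assoc]
    obtain ⟨w, hw, -⟩ := hk₀.exists_lift ((z ≫ u ≫ i)⁻¹ * (p ≫ x)) (toUnit W') (by
      rw [MonObj.mul_comp, GrpObj.inv_comp, hz, inv_mul_cancel, Hom.one_def])
    haveI : LocallyOfFiniteType g.left := AlgGrpBasic19.lft_left g
    haveI : LocallyOfFiniteType p.left :=
      MorphismProperty.of_isPullback ((IsPullback.of_hasPullback y g).map (Over.forget _)).flip ‹LocallyOfFiniteType g.left›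
    refine ⟨W', p, z, w, inferInstance, inferInstance, ?_⟩
    rw [hw, mul_inv_cancel_left]

end Groth.Agent.RadBC15
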