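import Groth.Agent.Lib.RadBC15.Main
import Groth.Agent.Lib.RedLR15.Converse
import Groth.Agent.Lib.TorPts21.Isogeny
import Groth.Agent.Lib.TorPts21.RadicalImage
import Groth.Agent.Lib.AffQuot19.Basic

/-!
# Reductivity may be checked over the algebraic closure; images under surjections
-/

set_option autoImplicit false
set_option linter.style.haveILetI false
set_option backward.isDefEq.respectTransparency false
set_option backward.isDefEq.respectTransparency.types false
set_option maxSynthPendingDepth 3
set_option synthInstance.maxHeartbeats 400000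
universe u

open CategoryTheory CategoryTheory.Limits MonoidalCategory CartesianMonoidalCategory MonObj AlgebraicGeometry
open Groth.Agent Groth.Agent.DiagGL Groth.Agent.MTRigid29

noncomputable section

namespace Groth.Agent.RadBC15

variable {k : Type u} [Field k]

local notation "π₀" => Spec.map (CommRingCat.ofHom (algebraMap k (AlgebraicClosure k)))

/-- The geometric point of a field is, up to isomorphism, the algebraic closure. -/
theorem exists_isIso_factor (s : ↥(Spec (CommRingCat.of k))) :
    ∃ φ : Spec (CommRingCat.of (AlgebraicClosure ((Spec (CommRingCat.of k)).residueField s))) ⟶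
      Spec (CommRingCat.of (AlgebraicClosure k)), IsIso φ ∧ φ ≫ π₀ = Red.geomPt s := by
  let κ := (Spec (CommRingCat.of k)).residueField s
  let E := AlgebraicClosure κ
  let K := AlgebraicClosure k
  obtain ⟨φ, hφ⟩ := UnipBC21.exists_factor (k := k) (Red.geomPt s)
  obtain ⟨g, rfl⟩ := Spec.map_surjective φ
  haveI hiso : IsIso ((Spec (CommRingCat.of k)).fromSpecResidueField s) := by
    haveI : IsClosedImmersion ((Spec (CommRingCat.of k)).fromSpecResidueField s) :=
      IsClosedImmersion.of_isPreimmersion _ (by
        rw [Scheme.range_fromSpecResidueField]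
        exact (Set.subsingleton_of_subsingleton).isClosed)
    haveI : Surjective ((Spec (CommRingCat.of k)).fromSpecResidueField s) :=
      ⟨fun y => ⟨IsLocalRing.closedPoint _, Subsingleton.elim (α := PrimeSpectrum k) _ _⟩⟩
    haveI : IsReduced (Spec (CommRingCat.of k)) := inferInstance
    exact isIso_of_isClosedImmersion_of_surjective _
  obtain ⟨b, hb⟩ := Spec.map_surjective ((Spec (CommRingCat.of k)).fromSpecResidueField s)
  haveI : IsIso (Spec.map b) := hb ▸ hiso
  haveI : IsIso b := by
    haveI : IsIso (Scheme.Spec.map b.op) := ‹IsIso (Spec.map b)›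
    haveI : IsIso b.op := isIso_of_reflects_iso b.op Scheme.Spec
    exact isIso_of_op b
  have hg : CommRingCat.ofHom (algebraMap k K) ≫ g = b ≫ CommRingCat.ofHom (algebraMap κ E) :=
    Spec.map_injective (by rw [Spec.map_comp, Spec.map_comp, hφ, hb, Red.geomPt])
  letI : Algebra K E := g.hom.toAlgebra
  haveI : Algebra.IsIntegral K E := ⟨fun x => by
    obtain ⟨p, hp, hpx⟩ := Algebra.IsIntegral.isIntegral (R := κ) x
    obtain ⟨q, hq, hqd, hqm⟩ := Polynomial.lifts_and_degree_eq_and_monic
      ((Polynomial.lifts_iff_coeff_lifts (f := b.hom) p).2 fun n => (ConcreteCategory.bijective_of_isIso b).surjective _) hp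
    refine ⟨q.map (algebraMap k K), hqm.map _, ?_⟩
    rw [Polynomial.eval₂_map]
    rw [← hq, Polynomial.eval₂_map] at hpx
    rw [← hpx]
    congr 1
    exact congrArg CommRingCat.Hom.hom hg⟩
  have hbij : Function.Bijective (algebraMap K E) := IsAlgClosed.algebraMap_bijective_of_isIntegral
  haveI : IsIso g := (RingEquiv.ofBijective (algebraMap K E) hbij).toCommRingCatIso.isIso_hom
  exact ⟨Spec.map g, inferInstance, hφ⟩

/-- Reductivity of geometric fibres from reductivity over the algebraic closure. -/
theorem isReductive_of_algClosure {G : Over (Spec (CommRingCat.of k))} [GrpObj G] [IsAffine G.left] [Smooth G.hom]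
    (h : Red.IsReductiveOver (AlgebraicClosure k) (Red.bc π₀ G)) : Red.IsReductive G := by
  refine ⟨inferInstance, inferInstance, fun s => ?_⟩
  obtain ⟨φ, hφi, hφ⟩ := exists_isIso_factor s
  haveI := hφi
  have h1 := RedLR15.isReductiveOver_bc_of_isIso φ h
  let f := (compIso hφ G).inv
  haveI : IsAffine (Red.bc (Red.geomPt s) G).left := BorelFix21.isAffine_bc _ G
  haveI : Smooth (Red.bc (Red.geomPt s) G).hom := BorelFix21.smooth_bc _ G
  obtain ⟨ha, hs, hc, -⟩ := id h1
  haveI := ha; haveI := hs; haveI := hc
  haveI : IsMonHom (compIso hφ G).hom := isMonHom_compIso hφ G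
  haveI : IsMonHom f := TorsorSch25.isMonHom_of_points f fun T x y => (cancel_mono (compIso hφ G).hom).1 (by
    simp only [f, MonObj.mul_comp _ _ (compIso hφ G).hom, Category.assoc, Iso.inv_hom_id, Category.comp_id])
  haveI : IsIso f.left := inferInstanceAs (IsIso ((Over.forget _).map f))
  haveI : ConnectedSpace (Red.bc (Red.geomPt s) G).left := (Scheme.homeoOfIso (asIso f.left)).connectedSpace_iff.2 hc
  haveI : Subsingleton ↥(𝟙_ (Over (Spec (CommRingCat.of (AlgebraicClosure ((Spec (CommRingCat.of k)).residueField s)))))).left :=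
    inferInstanceAs (Subsingleton (PrimeSpectrum _))
  exact TorPts21.isReductiveOver_of_isogeny f
    ((Set.finite_range _).preimage (Scheme.homeoOfIso (asIso f.left)).injective.injOn) h1

/-- A surjection killing the unipotent radical has reductive target, over the algebraic closure. -/
theorem isReductiveOver_of_killed [PerfectField k] {G G' U : Over (Spec (CommRingCat.of k))} [GrpObj G] [GrpObj G']
    [GrpObj U] [IsAffine G.left] [Smooth G.hom] [ConnectedSpace G.left] {u : U ⟶ G} (hU : Par.IsUnipotentRadical u)
    [IsAffine G'.left] [Smooth G'.hom] (q : G ⟶ G') [IsMonHom q] [Surjective q.left] (hq : u ≫ q = 1) :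
    Red.IsReductiveOver (AlgebraicClosure k) (Red.bc π₀ G') := by
  let P := Over.pullback π₀
  haveI : ConnectedSpace G'.left := q.left.surjective.connectedSpace q.left.continuous
  haveI : IsAffine (Red.bc π₀ G).left := BorelFix21.isAffine_bc π₀ G
  haveI : Smooth (Red.bc π₀ G).hom := BorelFix21.smooth_bc π₀ G
  haveI : ConnectedSpace (Red.bc π₀ G).left := BorelFix21.connectedSpace_bc π₀ G
  haveI : IsAffine (Red.bc π₀ G').left := BorelFix21.isAffine_bc π₀ G'
  haveI : Smooth (Red.bc π₀ G').hom := BorelFix21.smooth_bc π₀ G'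
  haveI : ConnectedSpace (Red.bc π₀ G').left := BorelFix21.connectedSpace_bc π₀ G'
  haveI : Surjective (P.map q).left :=
    MorphismProperty.of_isPullback (MTRigid29.isPullback_map_left π₀ q) ‹Surjective q.left›
  obtain ⟨U', _, u', hU', huniv'⟩ := TorPts21.exists_unipotentRadical_connected (Red.bc π₀ G')
  obtain ⟨f, hf, hfs⟩ := TorPts21.exists_image_radical (P.map q) (radical_bc hU) hU'
  haveI := hfs
  obtain ⟨hum', huc', -, hus', -⟩ := (TorPts21.isUnipotentRadical_iff u').1 hU'
  haveI := hum'; haveI := huc'; haveI := hus'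
  haveI : Smooth U.hom := hU.2.2.2.1
  haveI : Smooth (Red.bc π₀ U).hom := BorelFix21.smooth_bc π₀ U
  haveI : IsAffine U'.left := isAffine_of_isAffineHom u'.left
  haveI : Mono u' := Over.mono_of_mono_left u'
  have hU'1 : ∀ z : VecGrp.pt (AlgebraicClosure k) (AlgebraicClosure k) ⟶ U', z = 1 := fun z => by
    obtain ⟨w, rfl⟩ := BorelFix21.exists_pt_lift f z
    rw [← cancel_mono u', Category.assoc, hf, ← P.map_comp, hq, Functor.map_one, MonObj.comp_one, MonObj.one_comp]
  refine ⟨inferInstance, inferInstance, inferInstance, fun V _ v _ hvc hvs hvn hvnorm hV => ?_⟩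
  haveI := hvc; haveI := hvs
  haveI : IsAffine V.left := isAffine_of_isAffineHom v.left
  haveI : Mono v := Over.mono_of_mono_left v
  obtain ⟨g, hg⟩ := huniv' V v hvc hvs hvn hvnorm hV
  refine TorPts21.isTrivialGrp_of_pts fun x => (cancel_mono v).1 ?_
  rw [MonObj.one_comp, ← hg, ← Category.assoc, hU'1 (x ≫ g), MonObj.one_comp]

end Groth.Agent.RadBC15
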