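import Groth.Agent.Lib.Derived21.Field
import Groth.Agent.Lib.Derived21.Basic

/-!
# The commutator subgroup over a field and its geometric points
-/

set_option autoImplicit false
set_option linter.style.haveILetI false
set_option backward.isDefEq.respectTransparency.types false

universe u

open CategoryTheory Limits MonoidalCategory CartesianMonoidalCategory MonObj AlgebraicGeometry
open Groth.Agent.DiagGL Groth.Agent.TorPts21
open scoped commutatorElement

noncomputable section

namespace Groth.Agent.RadBC15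

variable {k : Type u} [Field k]

attribute [local instance] InvRing21.gamAlg BorelFix21.ptsTop

set_option maxHeartbeats 1000000 in
/-- The subgroup generated by commutators has only products of commutators as geometric points. -/
theorem exists_commutator (G : Over (Spec (CommRingCat.of k))) [GrpObj G] [IsAffine G.left] [Smooth G.hom]
    [ConnectedSpace G.left] :
    ∃ (D : Over (Spec (CommRingCat.of k))) (_ : GrpObj D) (d : D ⟶ G), IsMonHom d ∧ IsClosedImmersion d.left ∧
      AlgGrp.IsNormalHom d ∧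
      (∀ (T : Over (Spec (CommRingCat.of k))) (a b : T ⟶ G), ∃ m : T ⟶ D, a * b * a⁻¹ * b⁻¹ = m ≫ d) ∧
      ∀ (K : Type u) [Field K] [IsAlgClosed K] (σ : Spec (CommRingCat.of K) ⟶ Spec (CommRingCat.of k))
        (x : VecGrp.pt K K ⟶ Red.bc σ D),
        x ≫ (Over.pullback σ).map d ∈ commutator (VecGrp.pt K K ⟶ Red.bc σ G) := by
  haveI : QuasiCompact G.hom := GrpGen20.quasiCompact_of_connected G
  haveI : GeometricallyReduced G.hom := AbRigid.geometricallyReduced_of_smooth G.hom
  haveI : GeometricallyReduced (G ⊗ G).hom := GrpGen20.geometricallyReduced_tensorObj _ _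
  haveI : GeometricallyConnected G.hom := GrpGen20.geometricallyConnected_of_connected G
  haveI : ConnectedSpace (G ⊗ G).left := inferInstanceAs (ConnectedSpace ↥(Limits.pullback G.hom G.hom))
  let φ : G ⊗ G ⟶ G := GrpGen20.commHom (𝟙 G) (𝟙 G)
  obtain ⟨N, _, i, him, hic, ⟨f', hf'⟩, hgr, hrange, hmin⟩ := GrpGen20.exists_generated φ
  haveI := him
  haveI := hic
  haveI := hgr
  haveI : Mono i := Over.mono_of_mono_left i
  have hφ : ∀ {T : Over (Spec (CommRingCat.of k))} (a b : T ⟶ G), lift a b ≫ φ = ⁅a, b⁆ := fun a b => by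
    show lift a b ≫ GrpGen20.commHom (𝟙 G) (𝟙 G) = _
    rw [GrpGen20.comp_commHom, lift_fst, lift_snd, Category.comp_id, Category.comp_id]
  have hgen : ∀ (D : Over (Spec (CommRingCat.of k))) (_ : GrpObj D) (c : D ⟶ N), IsMonHom c → IsClosedImmersion c.left →
      (∃ f'' : G ⊗ G ⟶ D, f'' ≫ c = f') → ∀ (T : Over (Spec (CommRingCat.of k))) (g : T ⟶ N), ∃ z, z ≫ c = g := by
    intro D hD c hc1 hc2 hc3 T g
    obtain ⟨d, hd⟩ := hc3
    haveI := hc2
    haveI : IsClosedImmersion (c ≫ i).left := by rw [Over.comp_left]; infer_instance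
    obtain ⟨l, hl⟩ := hmin D hD (c ≫ i) inferInstance inferInstance
      ⟨d, by rw [← Category.assoc, hd, hf']⟩
    exact ⟨g ≫ l, by rw [← cancel_mono i, Category.assoc, Category.assoc, hl]⟩
  refine ⟨N, inferInstance, i, him, hic, Derived21.isNormalHom_of_generated i f' hgen fun T x g => ?_,
    fun T a b => ⟨lift a b ≫ f', by rw [Category.assoc, hf', hφ, commutatorElement_def]⟩, fun K _ _ σ x => ?_⟩
  · refine ⟨lift (g * (x ≫ fst G G) * g⁻¹) (g * (x ≫ snd G G) * g⁻¹) ≫ f', ?_⟩
    rw [Category.assoc, hf', hφ, Category.assoc, hf',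
      show x = lift (x ≫ fst G G) (x ≫ snd G G) by simp [← comp_lift], hφ, lift_fst, lift_snd]
    simp only [commutatorElement_def]
    group
  · let F := Over.pullback σ
    haveI : IsAffine (Red.bc σ G).left := BorelFix21.isAffine_bc σ G
    haveI : Smooth (Red.bc σ G).hom := BorelFix21.smooth_bc σ G
    haveI : ConnectedSpace (Red.bc σ G).left := BorelFix21.connectedSpace_bc σ G
    obtain ⟨D', _, d', hd'm, hd'c, hD's, -, hD'⟩ := Derived21.exists_derived (Red.bc σ G)
    haveI := hd'c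
    haveI := hD's
    haveI : IsAffine D'.left := isAffine_of_isAffineHom d'.left
    let ψ : Red.bc σ G ⊗ Red.bc σ G ⟶ Red.bc σ G := GrpGen20.commHom (𝟙 _) (𝟙 _)
    haveI : Smooth (Red.bc σ G ⊗ Red.bc σ G).hom :=
      inferInstanceAs (Smooth (pullback.fst (Red.bc σ G).hom (Red.bc σ G).hom ≫ (Red.bc σ G).hom))
    haveI : IsAffine (Red.bc σ G ⊗ Red.bc σ G).left :=
      inferInstanceAs (IsAffine (pullback (Red.bc σ G).hom (Red.bc σ G).hom))
    obtain ⟨g, hg⟩ := exists_lift_of_pts d' ψ fun w => by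
      obtain ⟨w₀, hw₀⟩ := exists_gpt w
      have hmem : w₀ ≫ ψ ∈ commutator (𝟙_ (Over (Spec (CommRingCat.of K))) ⟶ Red.bc σ G) := by
        show w₀ ≫ GrpGen20.commHom (𝟙 _) (𝟙 _) ∈ _
        rw [GrpGen20.comp_commHom]
        exact Subgroup.commutator_mem_commutator (Subgroup.mem_top _) (Subgroup.mem_top _)
      obtain ⟨e, he⟩ : w₀ ≫ ψ ∈ Set.range (fun e : 𝟙_ (Over (Spec (CommRingCat.of K))) ⟶ D' => e ≫ d') := hD' ▸ hmem
      exact ⟨toUnit _ ≫ e, by rw [Category.assoc]; show toUnit _ ≫ (fun e => e ≫ d') e = _; rw [he, ← Category.assoc, show toUnit _ ≫ w₀ = w from hw₀]⟩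
    obtain ⟨j, hj⟩ := GrpGen20.exists_factor_bc f' hgen i σ D' d' ⟨Functor.OplaxMonoidal.δ F G G ≫ g, by
      rw [Category.assoc, hg, hf', show ψ = Functor.LaxMonoidal.μ F G G ≫ F.map φ by
        show _ = Functor.LaxMonoidal.μ F G G ≫ F.map (GrpGen20.commHom (𝟙 G) (𝟙 G))
        rw [GrpGen20.map_commHom]; simp [ψ, F], Functor.Monoidal.δ_μ_assoc]⟩
    obtain ⟨x₀, hx₀⟩ := exists_gpt (x ≫ j)
    have h0 : x₀ ≫ d' ∈ commutator (𝟙_ (Over (Spec (CommRingCat.of K))) ⟶ Red.bc σ G) := by
      have : x₀ ≫ d' ∈ Set.range (fun e : 𝟙_ (Over (Spec (CommRingCat.of K))) ⟶ D' => e ≫ d') := ⟨x₀, rfl⟩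
      rwa [hD'] at this
    let c : (𝟙_ (Over (Spec (CommRingCat.of K))) ⟶ Red.bc σ G) →* (VecGrp.pt K K ⟶ Red.bc σ G) :=
      MonoidHom.mk' (fun y => toUnit _ ≫ y) fun y z => MonObj.comp_mul _ _ _
    have h1 : c (x₀ ≫ d') ∈ commutator (VecGrp.pt K K ⟶ Red.bc σ G) := by
      have h := Subgroup.mem_map_of_mem c h0
      rw [commutator_def, Subgroup.map_commutator] at h
      exact Subgroup.commutator_mono le_top le_top h
    have h2 : c (x₀ ≫ d') = x ≫ F.map i := by
      show toUnit _ ≫ x₀ ≫ d' = _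
      rw [← Category.assoc, show toUnit _ ≫ x₀ = x ≫ j from hx₀, Category.assoc, hj]
    exact h2 ▸ h1

end Groth.Agent.RadBC15
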