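import Groth.Agent.Lib.RadBC15.TorusAnti

/-!
# `G = G_gug · (T · G_ant)`
-/

set_option autoImplicit false
set_option linter.style.haveILetI false
set_option backward.isDefEq.respectTransparency false
set_option backward.isDefEq.respectTransparency.types false
set_option maxSynthPendingDepth 3
set_option synthInstance.maxHeartbeats 400000
universe u

open CategoryTheory CategoryTheory.Limits MonoidalCategory CartesianMonoidalCategory MonObj AlgebraicGeometry
open Groth.Agent

noncomputable section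

namespace Groth.Agent.RadBC15

set_option maxHeartbeats 2000000 in
/-- The semi-abelian subgroup `T·G_ant` is a quasi-complement to `G_gug`. -/
theorem main (k : Type u) [Field k] [PerfectField k] (p : ℕ) [Fact p.Prime] [CharP k p]
    (G : Over (Spec (CommRingCat.of k))) [GrpObj G] [Smooth G.hom] [QuasiCompact G.hom] [ConnectedSpace ↥G.left]
    (N : Over (Spec (CommRingCat.of k))) [GrpObj N] (i : N ⟶ G) [IsMonHom i] [IsClosedImmersion i.left]
    [Smooth N.hom] [IsAffine N.left] [ConnectedSpace ↥N.left] (hN : AlgGrp.IsNormalHom i)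
    (A : Over (Spec (CommRingCat.of k))) [GrpObj A] (q : G ⟶ A) [IsMonHom q] [Surjective q.left] [Flat q.left]
    [IsProper A.hom] [Smooth A.hom] [ConnectedSpace ↥A.left] (hq : AlgGrp.IsKernel i q)
    (hNmax : ∀ (N₁ : Over (Spec (CommRingCat.of k))) [GrpObj N₁] (i₁ : N₁ ⟶ G) [IsMonHom i₁] [IsClosedImmersion i₁.left],
      Smooth N₁.hom → IsAffine N₁.left → ConnectedSpace ↥N₁.left → ∃ f : N₁ ⟶ N, f ≫ i = i₁)
    (R : Over (Spec (CommRingCat.of k))) [GrpObj R] (r : R ⟶ N) [IsMonHom r] [IsClosedImmersion r.left]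
    [Smooth R.hom] [ConnectedSpace ↥R.left] (hRs : Red.IsSolvableGrp R) (hRn : AlgGrp.IsNormalHom r)
    (hRmax : ∀ (R₁ : Over (Spec (CommRingCat.of k))) [GrpObj R₁] (r₁ : R₁ ⟶ N) [IsMonHom r₁] [IsClosedImmersion r₁.left],
      Smooth R₁.hom → ConnectedSpace ↥R₁.left → Red.IsSolvableGrp R₁ → AlgGrp.IsNormalHom r₁ → ∃ f : R₁ ⟶ R, f ≫ r = r₁)
    (T : Over (Spec (CommRingCat.of k))) [GrpObj T] (t : T ⟶ R) (hT : Red.IsMaximalTorus t)
    (H : Over (Spec (CommRingCat.of k))) [GrpObj H] (h : H ⟶ G) [IsMonHom h] [IsClosedImmersion h.left]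
    (hHn : AlgGrp.IsNormalHom h)
    (hHmin : ∀ (H' : Over (Spec (CommRingCat.of k))) [GrpObj H'] (h' : H' ⟶ G) [IsMonHom h'] [IsClosedImmersion h'.left]
        (Q' : Over (Spec (CommRingCat.of k))) [GrpObj Q'] (q' : G ⟶ Q') [IsMonHom q'] [Surjective q'.left] [Flat q'.left],
        AlgGrp.IsNormalHom h' → Smooth H'.hom → ConnectedSpace ↥H'.left → AlgGrp.IsKernel h' q' →
        SAQuot15.IsSAExt Q' → ∃ f : H ⟶ H', f ≫ h' = h)
    {Q : Over (Spec (CommRingCat.of k))} [GrpObj Q] (qH : G ⟶ Q) [IsMonHom qH] [Surjective qH.left] [Flat qH.left]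
    (hHker : AlgGrp.IsKernel h qH) (hQ : SAQuot15.IsSAExt Q)
    (g : H ⟶ N) (hg : g ≫ i = h)
    (M : Over (Spec (CommRingCat.of k))) [GrpObj M] [LocallyOfFiniteType M.hom] [QuasiCompact M.hom] (j : M ⟶ G) [IsMonHom j] [IsClosedImmersion j.left]
    (hM : Function.Bijective ((Scheme.ΓSpecIso (CommRingCat.of k)).inv ≫ M.hom.appTop).hom)
    (hMmax : ∀ (M₁ : Over (Spec (CommRingCat.of k))) [GrpObj M₁] [LocallyOfFiniteType M₁.hom] [QuasiCompact M₁.hom] (j₁ : M₁ ⟶ G) [IsMonHom j₁] [IsClosedImmersion j₁.left],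
      Function.Bijective ((Scheme.ΓSpecIso (CommRingCat.of k)).inv ≫ M₁.hom.appTop).hom → ∃ g₁ : M₁ ⟶ M, g₁ ≫ j = j₁)
    (S : Over (Spec (CommRingCat.of k))) [GrpObj S] (s : S ⟶ G) [IsMonHom s] [IsClosedImmersion s.left] [Smooth S.hom]
    (tS : T ⟶ S) (mS : M ⟶ S) [IsMonHom tS] [IsMonHom mS] (htS : tS ≫ s = t ≫ r ≫ i) (hmS : mS ≫ s = j)
    (hS : Surjective ((tS ⊗ₘ mS) ≫ μ[S]).left) :
    Surjective ((h ⊗ₘ s) ≫ μ[G]).left ∧
    (∀ (P : Over (Spec (CommRingCat.of k))) (p₁ : P ⟶ H) (p₂ : P ⟶ S), IsPullback p₁ p₂ h s → IsFinite P.hom) ∧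
    ConnectedSpace ↥S.left ∧
    ∃ (B : Over (Spec (CommRingCat.of k))) (_ : GrpObj B) (qB : S ⟶ B), IsMonHom qB ∧ Surjective qB.left ∧ Flat qB.left ∧
      AlgGrp.IsKernel tS qB ∧ IsProper B.hom ∧ Smooth B.hom ∧ ConnectedSpace ↥B.left := by
  haveI : IsSeparated G.hom := AbRigid.isSeparated_of_grpObj G
  haveI : CompactSpace G.left := (quasiCompact_iff_compactSpace G.hom).1 inferInstance
  haveI : CompactSpace Q.left := qH.left.surjective.compactSpace qH.left.continuous
  haveI : QuasiCompact Q.hom := (quasiCompact_iff_compactSpace Q.hom).2 inferInstance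
  haveI : LocallyOfFiniteType Q.hom := locallyOfFiniteType_target h hHn qH hHker
  haveI : Mono i := Over.mono_of_mono_left i
  haveI : Mono h := Over.mono_of_mono_left h
  haveI : Mono s := Over.mono_of_mono_left s
  haveI : LocallyOfFiniteType H.hom := by rw [← Over.w h]; infer_instance
  haveI : QuasiCompact H.hom := by rw [← Over.w h]; infer_instance
  haveI : LocallyOfFiniteType S.hom := by rw [← Over.w s]; infer_instance
  haveI : QuasiCompact S.hom := by rw [← Over.w s]; infer_instance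
  haveI : IsReduced S.left := OrbitTop19.isReduced_of_smooth S.hom
  haveI := hT.1; haveI := hT.2.1
  obtain ⟨hTl, hTq, -, hTcomm⟩ := Semiab15.torus_props hT.2.2.1
  haveI := hTl; haveI := hTq; haveI := hTcomm
  obtain ⟨hTs, hTc⟩ := TorPts21.smooth_connected_of_isTorus hT.2.2.1
  haveI := hTs; haveI := hTc
  obtain ⟨hMs, hMc, hMcomm⟩ := Semiab15.aa_props hM
  haveI := hMs; haveI := hMc; haveI := hMcomm
  have hcen : ∀ {X : Over (Spec (CommRingCat.of k))} (m : X ⟶ M) (y : X ⟶ G), (m ≫ j) * y = y * (m ≫ j) :=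
    fun {X} m y => by
      have := Groth.Agent.S7996.result k M G hM j X m X (𝟙 X) y
      simpa using this
  haveI : IsClosedImmersion t.left := by
    haveI : IsAffine R.left := isAffine_of_isAffineHom r.left
    exact Semiab15.isClosedImmersion_of_trivial_kernel t
  haveI : IsClosedImmersion (tS.left ≫ s.left) := by rw [← Over.comp_left, htS, Over.comp_left, Over.comp_left]; infer_instance
  haveI : IsClosedImmersion tS.left := IsClosedImmersion.of_comp tS.left s.left
  -- surjectivity onto `G`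
  have hsurj : Surjective ((h ⊗ₘ s) ≫ μ[G]).left := by
    haveI hNM : Surjective ((i ⊗ₘ j) ≫ μ[G]).left :=
      (Groth.Agent.S14582.result k G N i hN A q hq M j hM hMmax).1
    haveI hTH := surjective_mul r hRs hRn hRmax hT i hQ qH h hHker g hg
    let F : T ⊗ H ⟶ N := ((t ≫ r) ⊗ₘ g) ≫ μ[N]
    haveI : Surjective (F ▷ M).left :=
      MorphismProperty.of_isPullback ((AbRigid.isPullback_whiskerRight F M).map (Over.forget _)) hTH
    let x : (T ⊗ H) ⊗ M ⟶ G := fst _ M ≫ fst T H ≫ t ≫ r ≫ i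
    let y : (T ⊗ H) ⊗ M ⟶ G := fst _ M ≫ snd T H ≫ h
    obtain ⟨n', hn'⟩ := hHn _ x (fst _ M ≫ snd T H)
    let Φ : (T ⊗ H) ⊗ M ⟶ H ⊗ S := lift n' ((fst _ M ≫ fst T H ≫ tS) * (snd _ M ≫ mS))
    have he : Φ ≫ ((h ⊗ₘ s) ≫ μ[G]) = (F ▷ M) ≫ ((i ⊗ₘ j) ≫ μ[G]) := by
      rw [← lift_fst_comp_snd_comp i j, ← Hom.mul_def, MonObj.comp_mul, whiskerRight_fst_assoc, whiskerRight_snd_assoc,
        ← Category.assoc Φ, lift_map, ← Hom.mul_def, ← hn', MonObj.mul_comp]
      simp only [Category.assoc, htS, hmS]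
      simp only [F, ← lift_fst_comp_snd_comp (t ≫ r) g, ← Hom.mul_def, MonObj.comp_mul, MonObj.mul_comp,
        Category.assoc, hg, x]
      group
    haveI : Surjective (Φ.left ≫ ((h ⊗ₘ s) ≫ μ[G]).left) := by
      rw [← Over.comp_left, he, Over.comp_left]; infer_instance
    exact Surjective.of_comp Φ.left _
  -- `S` is commutative and connected
  let ν : T ⊗ M ⟶ S := (tS ⊗ₘ mS) ≫ μ[S]
  have hν : ∀ {X : Over (Spec (CommRingCat.of k))} (a : X ⟶ T ⊗ M),
      a ≫ ν = ((a ≫ fst T M) ≫ tS) * ((a ≫ snd T M) ≫ mS) := fun a => by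
    simp only [ν, ← lift_fst_comp_snd_comp tS mS, ← Hom.mul_def, MonObj.comp_mul, Category.assoc]
  haveI : IsMonHom ν := TorsorSch25.isMonHom_of_points ν fun X a b => by
    rw [hν, hν, hν, MonObj.mul_comp a b (fst T M), MonObj.mul_comp a b (snd T M), MonObj.mul_comp, MonObj.mul_comp]
    refine Commute.mul_mul_mul_comm ((cancel_mono s).1 ?_) _ _
    rw [MonObj.mul_comp, MonObj.mul_comp, Category.assoc (a ≫ snd T M), hmS]
    exact (hcen _ _).symm
  haveI : Flat ν.left := AbRigid.flat_of_surjective_of_isReduced (T ⊗ M) S ν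
  haveI : Surjective ν.left := hS
  haveI : LocallyOfFiniteType (T ⊗ M).hom := inferInstanceAs (LocallyOfFiniteType (pullback.fst T.hom M.hom ≫ T.hom))
  haveI : QuasiCompact (T ⊗ M).hom := inferInstanceAs (QuasiCompact (pullback.fst T.hom M.hom ≫ T.hom))
  haveI : QuasiCompact ν.left := AlgGrpBasic19.quasiCompact_left ν
  haveI : IsCommMonObj S := isCommMonObj_of_quot ν fun X a b => by
    have e : a * b * a⁻¹ * b⁻¹ = 1 := by
      refine CartesianMonoidalCategory.hom_ext _ _ ?_ ?_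
      · letI := Hom.commMonoid (M := T) (X := X)
        rw [MonObj.mul_comp _ _ (fst T M), MonObj.mul_comp _ _ (fst T M), MonObj.mul_comp _ _ (fst T M), GrpObj.inv_comp,
          GrpObj.inv_comp, MonObj.one_comp (fst T M), _root_.mul_comm (a ≫ fst T M), mul_inv_cancel_right, mul_inv_cancel]
      · letI := Hom.commMonoid (M := M) (X := X)
        rw [MonObj.mul_comp _ _ (snd T M), MonObj.mul_comp _ _ (snd T M), MonObj.mul_comp _ _ (snd T M), GrpObj.inv_comp,
          GrpObj.inv_comp, MonObj.one_comp (snd T M), _root_.mul_comm (a ≫ snd T M), mul_inv_cancel_right, mul_inv_cancel]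
    rw [e, MonObj.one_comp]
  haveI : GeometricallyConnected T.hom := GrpGen20.geometricallyConnected_of_connected T
  haveI : GeometricallyConnected M.hom := GrpGen20.geometricallyConnected_of_connected M
  haveI : ConnectedSpace (T ⊗ M).left := inferInstanceAs (ConnectedSpace ↥(Limits.pullback T.hom M.hom))
  haveI hSc : ConnectedSpace S.left := ν.left.surjective.connectedSpace ν.left.continuous
  -- the quotient by `T`
  obtain ⟨σ, _, c₀, AM, _, pM, hc₀, hc₀c, hσ, hpM, hpMs, hpMf, hkM, hAMp, hAMs, hAMc⟩ :=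
    Groth.Agent.S14600.result k p M hM
  haveI := hc₀; haveI := hc₀c; haveI := hpM; haveI := hpMs; haveI := hpMf; haveI := hAMp; haveI := hAMs; haveI := hAMc
  obtain ⟨hσl, hσq, hσa, -⟩ := Semiab15.torus_props hσ
  haveI := hσl; haveI := hσq; haveI := hσa
  obtain ⟨hσs, hσc⟩ := TorPts21.smooth_connected_of_isTorus hσ
  haveI : IsClosedImmersion (c₀ ≫ j).left := by rw [Over.comp_left]; infer_instance
  obtain ⟨c, hc⟩ := hNmax σ (c₀ ≫ j) hσs (isAffine_of_isAffineHom σ.hom) hσc
  haveI : IsMonHom c := BorelFix21.isMonHom_of_comp i c (hc ▸ inferInstance)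
  haveI : IsClosedImmersion (c.left ≫ i.left) := by rw [← Over.comp_left, hc]; infer_instance
  haveI : IsClosedImmersion c.left := IsClosedImmersion.of_comp c.left i.left
  obtain ⟨fT, hfT⟩ := exists_lift_torus i r hRmax hT hσ c fun X a y => by
    rw [hc, ← Category.assoc]; exact hcen _ y
  have hc₀S : c₀ ≫ mS = fT ≫ tS := by
    rw [← cancel_mono s, Category.assoc, Category.assoc, hmS, htS, ← hc, ← hfT]
    simp only [Category.assoc]
  obtain ⟨B, _, qB, hqB, -, hBl, hBq, hqBf, hqBs, -, hkB⟩ := Semiab15.exists_quot tS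
  haveI := hqB; haveI := hBl; haveI := hBq; haveI := hqBf; haveI := hqBs
  haveI : Smooth B.hom := AffQuot19.smooth_target S B qB
  have htB : tS ≫ qB = 1 := CharTorus15.comp_eq_one hkB
  haveI : QuasiCompact pM.left := Semiab15.qc_left pM
  obtain ⟨v, hv, -⟩ := AffPart25.exists_desc_hom c₀ pM hkM (mS ≫ qB) (by
    rw [← Category.assoc, hc₀S, Category.assoc, htB, MonObj.comp_one])
  haveI : Surjective v.left := by
    have e : ν ≫ qB = (snd T M ≫ pM) ≫ v := by
      show ((tS ⊗ₘ mS) ≫ μ[S]) ≫ qB = (snd T M ≫ pM) ≫ v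
      rw [Category.assoc (snd T M), hv]
      simp only [ν, ← lift_fst_comp_snd_comp tS mS, ← Hom.mul_def, MonObj.mul_comp, Category.assoc]
      rw [htB, MonObj.comp_one, _root_.one_mul]
    haveI : Surjective ((snd T M ≫ pM).left ≫ v.left) := by rw [← Over.comp_left, ← e, Over.comp_left]; infer_instance
    exact Surjective.of_comp (snd T M ≫ pM).left v.left
  obtain ⟨hBp, hBc⟩ := Semiab15.abelian_of_surjective v
  haveI := hBp
  refine ⟨hsurj, fun P p₁ p₂ hP => ?_, hSc, B, inferInstance, qB, hqB, hqBs, hqBf, hkB, hBp, inferInstance, hBc⟩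
  -- finiteness of the intersection
  let W := pullback h s
  let w₁ : W ⟶ H := pullback.fst h s
  let w₂ : W ⟶ S := pullback.snd h s
  have hW : IsPullback w₁ w₂ h s := IsPullback.of_hasPullback h s
  haveI : IsClosedImmersion w₁.left :=
    MorphismProperty.of_isPullback (P := @IsClosedImmersion) (hW.map (Over.forget _)).flip ‹IsClosedImmersion s.left›
  haveI : Mono w₁ := Over.mono_of_mono_left w₁
  obtain ⟨hWg, hw₁⟩ : ∃ _ : GrpObj W, IsMonHom w₁ := by
    refine MTRigid29.exists_grpObj_of_subgroup w₁ (fun X a b => ?_) ?_ fun X a => ?_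
    · refine ⟨hW.lift ((a ≫ w₁) * (b ≫ w₁)) ((a ≫ w₂) * (b ≫ w₂)) ?_, hW.lift_fst _ _ _⟩
      rw [MonObj.mul_comp, MonObj.mul_comp, Category.assoc, Category.assoc, Category.assoc, Category.assoc, hW.w]
    · exact ⟨hW.lift 1 1 (by rw [MonObj.one_comp, MonObj.one_comp]), hW.lift_fst _ _ _⟩
    · refine ⟨hW.lift (a ≫ w₁)⁻¹ (a ≫ w₂)⁻¹ ?_, hW.lift_fst _ _ _⟩
      rw [GrpObj.inv_comp, GrpObj.inv_comp, Category.assoc, Category.assoc, hW.w]
  haveI := hw₁
  haveI : IsMonHom w₂ := BorelFix21.isMonHom_of_comp s w₂ (hW.w ▸ inferInstance)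
  haveI : IsClosedImmersion (g.left ≫ i.left) := by rw [← Over.comp_left, hg]; infer_instance
  haveI : IsClosedImmersion g.left := IsClosedImmersion.of_comp g.left i.left
  haveI : IsAffine H.left := isAffine_of_isAffineHom g.left
  haveI : IsAffine W.left := isAffine_of_isAffineHom w₁.left
  haveI : LocallyOfFiniteType W.hom := by rw [← Over.w w₁]; infer_instance
  obtain ⟨Kp, _, κ, hκm, hκc, hkκ⟩ := CharTorus15.exists_kernel (w₂ ≫ qB)
  haveI := hκm; haveI := hκc
  obtain ⟨x, hx⟩ := CharTorus15.exists_lift hkB (κ ≫ w₂) (by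
    rw [Category.assoc]; exact CharTorus15.comp_eq_one hkκ)
  have hI : IsPullback (pullback.fst (t ≫ r) g) (pullback.snd (t ≫ r) g) (t ≫ r) g := IsPullback.of_hasPullback _ _
  haveI hIf : IsFinite (pullback (t ≫ r) g).hom :=
    isFinite_inter G N i hN A q hq R r hRs hRn T t hT.2.2.1 H h hHmin g hg _ _ _ hI
  obtain ⟨l, -, hl⟩ := hI.exists_lift x (κ ≫ w₁) (by
    rw [← cancel_mono i, Category.assoc, Category.assoc t, ← htS, ← Category.assoc, hx, Category.assoc, ← hW.w,
      Category.assoc, Category.assoc, hg])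
  haveI : IsClosedImmersion (l.left ≫ (pullback.snd (t ≫ r) g).left) := by
    rw [← Over.comp_left, hl, Over.comp_left]; infer_instance
  haveI : IsSeparated H.hom := AbRigid.isSeparated_of_grpObj H
  haveI : IsClosedImmersion (pullback.snd (t ≫ r) g).left := by
    haveI : IsClosedImmersion (t ≫ r).left := by rw [Over.comp_left]; infer_instance
    exact MorphismProperty.of_isPullback (P := @IsClosedImmersion) (hI.map (Over.forget _)) ‹_›
  haveI : IsClosedImmersion l.left := IsClosedImmersion.of_comp l.left (pullback.snd (t ≫ r) g).left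
  haveI : IsFinite Kp.hom := by rw [← Over.w l]; infer_instance
  haveI : IsFinite W.hom := isFinite_of_kernel_finite (w₂ ≫ qB) κ hkκ
  haveI : IsIso hP.isoPullback.hom.left := (inferInstance : IsIso ((Over.forget _).map hP.isoPullback.hom))
  rw [← Over.w hP.isoPullback.hom]
  infer_instance

end Groth.Agent.RadBC15
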