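import Groth.Agent.Lib.RadBC15.Gug
import Groth.Agent.Lib.AntiAff20.Kernel
import Groth.Agent.Lib.Semiab15.AntiAff
import Groth.Agent.Lib.AbRigid.FlatFibre
import Groth.Agent.S14582
import Groth.Agent.S7996

/-!
# A connected group is the product of its affine part and a central subgroup
-/

set_option autoImplicit false
set_option linter.style.haveILetI false
set_option backward.isDefEq.respectTransparency false
set_option backward.isDefEq.respectTransparency.types false
set_option maxSynthPendingDepth 3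
set_option synthInstance.maxHeartbeats 400000
universe u

open CategoryTheory CategoryTheory.Limits MonoidalCategory CartesianMonoidalCategory MonObj AlgebraicGeometry
open Groth.Agent

noncomputable section

namespace Groth.Agent.RadBC15

variable {k : Type u} [Field k]

variable {G N A : Over (Spec (CommRingCat.of k))} [GrpObj G] [GrpObj N] [GrpObj A] [Smooth G.hom]
  [QuasiCompact G.hom] [ConnectedSpace G.left] (i : N ⟶ G) [IsMonHom i] [IsClosedImmersion i.left]
  [Smooth N.hom] [IsAffine N.left] [IsProper A.hom]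
  (q : G ⟶ A) [IsMonHom q] [Surjective q.left] [Flat q.left] (hq : AlgGrp.IsKernel i q)

/-- Points of `G` are locally products of points of the affine part and central points. -/
theorem exists_central_cover (hN : AlgGrp.IsNormalHom i) (hq : AlgGrp.IsKernel i q)
    {W : Over (Spec (CommRingCat.of k))} (g : W ⟶ G) :
    ∃ (W' : Over (Spec (CommRingCat.of k))) (p : W' ⟶ W) (x : W' ⟶ N) (z : W' ⟶ G), Epi p ∧
      p ≫ g = (x ≫ i) * z ∧
      ∀ (V : Over (Spec (CommRingCat.of k))) (e : V ⟶ W') (y : V ⟶ G), (e ≫ z) * y = y * (e ≫ z) := by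
  haveI : QuasiSeparated G.hom := AlgGrpBasic19.quasiSeparatedSpace
  obtain ⟨-, hMl, hMq, hM⟩ := AntiAff20.exists_antiAffine_kernel G
  haveI := hMl; haveI := hMq
  let M := pullback (AffGrp19.toAff G) η[AffGrp19.aff G]
  let j : M ⟶ G := pullback.fst (AffGrp19.toAff G) η[AffGrp19.aff G]
  have hk : IsPullback j (pullback.snd (AffGrp19.toAff G) η[AffGrp19.aff G]) (AffGrp19.toAff G) η[AffGrp19.aff G] :=
    IsPullback.of_hasPullback _ _
  haveI : IsClosedImmersion η[AffGrp19.aff G].left :=
    isClosedImmersion_of_comp_eq_id (AffGrp19.aff G).hom _ (Over.w η[AffGrp19.aff G])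
  haveI : IsClosedImmersion j.left :=
    MorphismProperty.of_isPullback (hk.map (Over.forget _)).flip ‹IsClosedImmersion η[AffGrp19.aff G].left›
  haveI : Mono j := Over.mono_of_mono_left j
  have hkj : AlgGrp.IsKernel j (AffGrp19.toAff G) := by
    show IsPullback j (toUnit M) (AffGrp19.toAff G) η[AffGrp19.aff G]
    rw [toUnit_unique (toUnit M) (pullback.snd (AffGrp19.toAff G) η[AffGrp19.aff G])]
    exact hk
  obtain ⟨_, hjm⟩ := GrpDim20.exists_grpObj_kernel (AffGrp19.toAff G) j hkj
  haveI := hjm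
  have hmax : ∀ (M' : Over (Spec (CommRingCat.of k))) [GrpObj M'] [LocallyOfFiniteType M'.hom] [QuasiCompact M'.hom]
      (j' : M' ⟶ G) [IsMonHom j'] [IsClosedImmersion j'.left],
      Function.Bijective ((Scheme.ΓSpecIso (CommRingCat.of k)).inv ≫ M'.hom.appTop).hom → ∃ g : M' ⟶ M, g ≫ j = j' :=
    fun M' _ _ _ j' _ _ h => by
      obtain ⟨w, hw, -⟩ := hk.exists_lift j' (toUnit M') (by
        rw [Semiab15.hom_affine_eq_one h (j' ≫ AffGrp19.toAff G), Hom.one_def])
      exact ⟨w, hw⟩
  haveI hs : Surjective ((i ⊗ₘ j) ≫ μ[G]).left :=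
    (Groth.Agent.S14582.result k G N i hN A q hq M j hM hmax).1
  have hc : ∀ {T : Over (Spec (CommRingCat.of k))} (m : T ⟶ M) (y : T ⟶ G), (m ≫ j) * y = y * (m ≫ j) :=
    fun {T} m y => by
      have := Groth.Agent.S7996.result k M G hM j T m T (𝟙 T) y
      simpa using this
  let ν : N ⊗ M ⟶ G := (i ⊗ₘ j) ≫ μ[G]
  have hν : ∀ {T : Over (Spec (CommRingCat.of k))} (a : T ⟶ N ⊗ M),
      a ≫ ν = ((a ≫ fst N M) ≫ i) * ((a ≫ snd N M) ≫ j) := fun a => by
    simp only [ν, ← lift_fst_comp_snd_comp i j, ← Hom.mul_def, MonObj.comp_mul, Category.assoc]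
  haveI : IsMonHom ν := TorsorSch25.isMonHom_of_points ν fun T a b => by
    rw [hν, hν, hν, MonObj.mul_comp a b (fst N M), MonObj.mul_comp a b (snd N M), MonObj.mul_comp, MonObj.mul_comp]
    exact Commute.mul_mul_mul_comm (hc (a ≫ snd N M) ((b ≫ fst N M) ≫ i)).symm _ _
  haveI : IsReduced G.left := OrbitTop19.isReduced_of_smooth G.hom
  haveI : Flat ν.left := AbRigid.flat_of_surjective_of_isReduced (N ⊗ M) G ν
  haveI : IsSeparated G.hom := AbRigid.isSeparated_of_grpObj G
  haveI : LocallyOfFiniteType (N ⊗ M).hom := inferInstanceAs (LocallyOfFiniteType (pullback.fst N.hom M.hom ≫ N.hom))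
  haveI : QuasiCompact (N ⊗ M).hom := inferInstanceAs (QuasiCompact (pullback.fst N.hom M.hom ≫ N.hom))
  haveI : QuasiCompact ν.left := AlgGrpBasic19.quasiCompact_left ν
  let W' := pullback g ν
  let p : W' ⟶ W := pullback.fst g ν
  have hsq : IsPullback p (pullback.snd g ν) g ν := IsPullback.of_hasPullback _ _
  haveI : Flat p.left := MorphismProperty.of_isPullback (hsq.map (Over.forget _)).flip ‹Flat ν.left›
  haveI : Surjective p.left := MorphismProperty.of_isPullback (hsq.map (Over.forget _)).flip hs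
  haveI : QuasiCompact p.left := MorphismProperty.of_isPullback (hsq.map (Over.forget _)).flip ‹QuasiCompact ν.left›
  exact ⟨W', p, pullback.snd g ν ≫ fst N M, (pullback.snd g ν ≫ snd N M) ≫ j, AlgGrpBasic19.epi_of_cover p,
    hsq.w.trans (hν _), fun V e y => by rw [← Category.assoc]; exact hc _ y⟩

variable {C : Over (Spec (CommRingCat.of k))} [GrpObj C] [IsCommMonObj C] (φ : N ⟶ C) [IsMonHom φ]

/-- A homomorphism of the affine part to a commutative group is invariant under conjugation in `G`. -/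
theorem exists_conj_invariant (hN : AlgGrp.IsNormalHom i) (hq : AlgGrp.IsKernel i q)
    {W : Over (Spec (CommRingCat.of k))} (g : W ⟶ G) (n : W ⟶ N) :
    ∃ n' : W ⟶ N, g * (n ≫ i) * g⁻¹ = n' ≫ i ∧ n' ≫ φ = n ≫ φ := by
  obtain ⟨n', hn'⟩ := hN W g n
  refine ⟨n', hn', ?_⟩
  obtain ⟨W', p, x, z, hp, hpg, hz⟩ := exists_central_cover i q hN hq g
  haveI : Mono i := Over.mono_of_mono_left i
  have e : p ≫ n' = x * (p ≫ n) * x⁻¹ := by
    rw [← cancel_mono i, MonObj.mul_comp, MonObj.mul_comp, GrpObj.inv_comp, Category.assoc, ← hn', MonObj.comp_mul,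
      MonObj.comp_mul, GrpObj.comp_inv, hpg, _root_.mul_inv_rev, Category.assoc]
    have h1 := hz W' (𝟙 W') (p ≫ n ≫ i)
    rw [Category.id_comp] at h1
    rw [show (x ≫ i) * z * (p ≫ n ≫ i) * (z⁻¹ * (x ≫ i)⁻¹) = (x ≫ i) * (z * (p ≫ n ≫ i) * z⁻¹) * (x ≫ i)⁻¹ by group,
      h1, mul_inv_cancel_right]
  rw [← cancel_epi p, ← Category.assoc, e, MonObj.mul_comp, MonObj.mul_comp, GrpObj.inv_comp, ← Category.assoc]
  letI := Hom.commMonoid (M := C) (X := W')
  rw [_root_.mul_comm (x ≫ φ), mul_inv_cancel_right]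

end Groth.Agent.RadBC15
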