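import Groth.Agent.Lib.SepAff15.CommTorus
import Groth.Agent.Lib.TorPts21.UnipRadical
import Groth.Agent.Lib.TorPts21.GeomIso
import Groth.Agent.Lib.UnipBC21.AlgClosure

/-!
# The unipotent radical over a perfect field commutes with the algebraic closure
-/

set_option autoImplicit false
set_option linter.style.haveILetI false
set_option backward.isDefEq.respectTransparency false
set_option backward.isDefEq.respectTransparency.types false
set_option maxSynthPendingDepth 3
set_option synthInstance.maxHeartbeats 400000
universe u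

open CategoryTheory CategoryTheory.Limits MonoidalCategory CartesianMonoidalCategory MonObj AlgebraicGeometry
open Groth.Agent Groth.Agent.DiagGL Groth.Agent.MTRigid29

noncomputable section

namespace Groth.Agent.RadBC15

variable {k : Type u} [Field k]

local notation "π₀" => Spec.map (CommRingCat.ofHom (algebraMap k (AlgebraicClosure k)))

/-- The trivial change of base does not create subtori. -/
theorem hasNoSubtorus_of_one {K : Type u} [Field K] {U : Over (Spec (CommRingCat.of K))} [GrpObj U]
    (h : Red.HasNoSubtorus K (Red.bc (𝟙 (Spec (CommRingCat.of K))) U)) : Red.HasNoSubtorus K U :=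
  fun T _ t _ _ hT => TorPts21.trivial_of_bc (𝟙 (Spec (CommRingCat.of K)))
    (h (Red.bc (𝟙 _) T) ((Over.pullback (𝟙 (Spec (CommRingCat.of K)))).map t) (TorPts21.isTorus_bc _ hT))

/-- The unipotent radical over the algebraic closure is defined over a perfect field. -/
theorem exists_radical_bc [PerfectField k] (N : Over (Spec (CommRingCat.of k))) [GrpObj N] [IsAffine N.left]
    [Smooth N.hom] [ConnectedSpace N.left] :
    ∃ (A : Over (Spec (CommRingCat.of k))) (_ : GrpObj A) (a : A ⟶ N), Par.IsUnipotentRadical a ∧
      Par.IsUnipotentRadical ((Over.pullback π₀).map a) := by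
  let K := AlgebraicClosure k
  let π := Spec.map (CommRingCat.ofHom (algebraMap k K))
  haveI : IsSeparated N.hom := inferInstance
  haveI : IsAffine (Red.bc π N).left := BorelFix21.isAffine_bc π N
  haveI : Smooth (Red.bc π N).hom := BorelFix21.smooth_bc π N
  haveI : ConnectedSpace (Red.bc π N).left := BorelFix21.connectedSpace_bc π N
  obtain ⟨U, _, i, hU, huniv⟩ := TorPts21.exists_unipotentRadical_connected (Red.bc π N)
  obtain ⟨him, hic, hin, his, -, hicon, hins, -⟩ := (TorPts21.isUnipotentRadical_iff i).1 hU
  haveI := him; haveI := hic; haveI := his; haveI := hicon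
  haveI : IsAffine U.left := isAffine_of_isAffineHom i.left
  haveI : Mono i := Over.mono_of_mono_left i
  haveI : Algebra.IsSeparable k K := inferInstance
  haveI : Surjective π := ⟨fun z => ⟨IsLocalRing.closedPoint _, Subsingleton.elim (α := PrimeSpectrum k) _ _⟩⟩
  haveI : Flat π := inferInstance
  haveI : IsAffineHom U.hom := inferInstance
  have hred : IsReduced (pullback π π) := by
    haveI : Algebra.IsGeometricallyReduced k K := SepAff15.isGeometricallyReduced_of_isSeparable k K
    haveI : _root_.IsReduced (TensorProduct k K K) := GeomRed21.isReduced_tensor_field K K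
    exact isReduced_of_isOpenImmersion (pullbackSpecIso k K K).hom
  have hcov : ∀ V : (Spec (CommRingCat.of k)).Opens, IsAffineOpen V →
      ∃ W : (Spec (CommRingCat.of K)).Opens, IsCompact (W : Set (Spec (CommRingCat.of K))) ∧
        π.base '' (W : Set (Spec (CommRingCat.of K))) = (V : Set _) := fun V hV =>
    ⟨π ⁻¹ᵁ V, π.isCompact_preimage hV.isCompact, Set.image_preimage_eq _ π.surjective⟩
  have hself : ∀ (T : Spec (CommRingCat.of K) ⟶ Spec (CommRingCat.of K)) (hT : T ≫ π = π),
      ∃ f, f ≫ i = twist i hT := fun T hT => by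
    haveI : IsMonHom (compIso hT N).hom := isMonHom_compIso hT N
    haveI : IsIso (compIso hT N).hom.left := inferInstanceAs (IsIso ((Over.forget _).map (compIso hT N).hom))
    haveI : IsMonHom (twist i hT) := isMonHom_twist i hT
    haveI : IsClosedImmersion ((Over.pullback T).map i).left := FrobSub19.isClosedImmersion_map T i ‹_›
    haveI : IsClosedImmersion (twist i hT).left :=
      inferInstanceAs (IsClosedImmersion (((Over.pullback T).map i).left ≫ (compIso hT N).hom.left))
    exact huniv (Red.bc T U) (twist i hT) ‹_› (BorelFix21.smooth_bc T U) (BorelFix21.connectedSpace_bc T U)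
      (SubSpec19.normal_comp_iso (SubSpec19.normal_bc T hin) (compIso hT N).hom)
      (UnipBC21.hasNoSubtorus_bc T U hins)
  obtain ⟨A, _, a, ha, haI, φ, hφ⟩ :=
    AffPart25.exists_descent i (fun p => SepAff15.twist_indep i hself hred p) hcov
  haveI := ha; haveI := haI
  haveI : IsIso φ.hom.left := (inferInstance : IsIso ((Over.forget _).map φ.hom))
  haveI : IsIso φ.inv.left := (inferInstance : IsIso ((Over.forget _).map φ.inv))
  haveI hmφ : IsMonHom φ.hom := TorsorSch25.isMonHom_of_points φ.hom fun T x y => (cancel_mono i).1 (by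
    rw [Category.assoc, hφ, MonObj.mul_comp x y, MonObj.mul_comp (x ≫ φ.hom), Category.assoc, Category.assoc, hφ,
      ← MonObj.mul_comp])
  haveI : IsClosedImmersion ((Over.pullback π).map a).left := by
    rw [← hφ, Over.comp_left]; infer_instance
  haveI : IsClosedImmersion a.left := by
    haveI := @FpqcDesc.descendsAlong_isClosedImmersion.{u}
    exact MorphismProperty.of_isPullback_of_descendsAlong (P := @IsClosedImmersion)
      (Q := @Surjective ⊓ @Flat ⊓ @QuasiCompact) (MTRigid29.isPullback_map_left π a).flip
      ⟨⟨inferInstance, inferInstance⟩, inferInstance⟩ ‹_›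
  haveI : IsAffine A.left := isAffine_of_isAffineHom a.left
  haveI : Smooth (Red.bc π A).hom := by rw [← Over.w φ.hom]; infer_instance
  haveI : Smooth A.hom := MorphismProperty.of_pullback_snd_of_descendsAlong (P := @Smooth)
    (Q := @Surjective ⊓ @Flat ⊓ @QuasiCompact) ⟨⟨inferInstance, inferInstance⟩, inferInstance⟩
    (f := A.hom) (g := π) (by exact (inferInstance : Smooth (Red.bc π A).hom))
  haveI : IsAffine (Red.bc π A).left := BorelFix21.isAffine_bc π A
  haveI : ConnectedSpace (Red.bc π A).left :=
    φ.hom.left.homeomorph.symm.surjective.connectedSpace φ.hom.left.homeomorph.symm.continuous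
  haveI : ConnectedSpace A.left := TorPts21.connectedSpace_of_bc π ‹_›
  haveI : Mono a := Over.mono_of_mono_left a
  have hnA : Red.HasNoSubtorus K (Red.bc π A) := UnipBC21.hasNoSubtorus_of_mono φ.hom hins
  have hn : AlgGrp.IsNormalHom a := SepAff15.isNormalHom_of_bc' π a i hin φ hφ
  have hfib : ∀ (U' : Over (Spec (CommRingCat.of k))) [GrpObj U'] (u' : U' ⟶ N) [IsMonHom u'],
      IsClosedImmersion u'.left → AlgGrp.IsNormalHom u' → Smooth U'.hom →
      (∀ s, ConnectedSpace (Red.geomFibre s U').left ∧
        Red.HasNoSubtorus (AlgebraicClosure ((Spec (CommRingCat.of k)).residueField s)) (Red.geomFibre s U')) →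
      ∃ f : U' ⟶ A, f ≫ a = u' := fun U' _ u' _ huc hun hus hs => by
    haveI := huc; haveI := hus
    haveI : IsAffine U'.left := isAffine_of_isAffineHom u'.left
    haveI : ConnectedSpace U'.left := by
      let s : ↥(Spec (CommRingCat.of k)) := IsLocalRing.closedPoint k
      haveI := (hs s).1
      haveI : Surjective (Red.geomPt s) := ⟨fun z => ⟨IsLocalRing.closedPoint _, Subsingleton.elim (α := PrimeSpectrum k) _ _⟩⟩
      exact TorPts21.connectedSpace_of_bc (Red.geomPt s) (hs s).1
    haveI : IsClosedImmersion ((Over.pullback π).map u').left := FrobSub19.isClosedImmersion_map π u' huc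
    have hn' : Red.HasNoSubtorus K (Red.bc π U') :=
      hasNoSubtorus_of_one (UnipBC21.hasNoSubtorus_of_geom U' (fun s => (hs s).2) (𝟙 _) π)
    obtain ⟨f, hf⟩ := huniv (Red.bc π U') ((Over.pullback π).map u') ‹_› (BorelFix21.smooth_bc π U')
      (BorelFix21.connectedSpace_bc π U') (SubSpec19.normal_bc π hun) hn'
    exact SepAff15.exists_factor_of_bc π u' a (f ≫ φ.inv) (by rw [Category.assoc, ← hφ, Iso.inv_hom_id_assoc, hf])
  refine ⟨A, inferInstance, a, ⟨inferInstance, inferInstance, hn, inferInstance, inferInstance, fun s =>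
    ⟨BorelFix21.connectedSpace_bc (Red.geomPt s) A, UnipBC21.hasNoSubtorus_geomFibre_of_algClosure A hnA s⟩,
    fun U' _ u' _ h1 h2 h3 _ h5 => hfib U' u' h1 h2 h3 h5⟩, ?_⟩
  refine (TorPts21.isUnipotentRadical_iff _).2 ⟨inferInstance, inferInstance, SubSpec19.normal_bc π hn, inferInstance,
    inferInstance, inferInstance, hnA, fun V _ v _ hvc hvn hvs _ hvcon hV => ?_⟩
  obtain ⟨f, hf⟩ := huniv V v hvc hvs hvcon hvn hV
  exact ⟨f ≫ φ.inv, by rw [Category.assoc, ← hφ, Iso.inv_hom_id_assoc, hf]⟩

/-- The unipotent radical over a perfect field stays one over the algebraic closure. -/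
theorem radical_bc [PerfectField k] {N R : Over (Spec (CommRingCat.of k))} [GrpObj N] [GrpObj R] [IsAffine N.left]
    [Smooth N.hom] [ConnectedSpace N.left] {u : R ⟶ N} (hR : Par.IsUnipotentRadical u) :
    Par.IsUnipotentRadical ((Over.pullback π₀).map u) := by
  obtain ⟨A, _, a, ⟨ham, hac, han, has, haq, hafib, hauniv⟩, haK⟩ := exists_radical_bc N
  obtain ⟨hum, huc, hun, hus, huq, hufib, huuniv⟩ := hR
  haveI := ham; haveI := hum
  obtain ⟨f, hf⟩ := hauniv R u huc hun hus huq hufib
  obtain ⟨g, hg⟩ := huuniv A a hac han has haq hafib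
  haveI : Mono u := Over.mono_of_mono_left u
  haveI : Mono a := Over.mono_of_mono_left a
  let P := Over.pullback π₀
  obtain ⟨hm, hc, hn, hs, -, hcon, hns, huniv⟩ := (TorPts21.isUnipotentRadical_iff _).1 haK
  haveI := hm; haveI := hc; haveI := hs; haveI := hcon
  haveI : IsClosedImmersion (P.map u).left := FrobSub19.isClosedImmersion_map _ u huc
  haveI : IsMonHom f := TorsorSch25.isMonHom_of_points f fun T x y => (cancel_mono a).1 (by
    rw [Category.assoc, hf, MonObj.mul_comp x y, MonObj.mul_comp (x ≫ f), Category.assoc, Category.assoc, hf])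
  haveI : IsIso f := ⟨g, (cancel_mono u).1 (by rw [Category.assoc, hg, hf, Category.id_comp]),
    (cancel_mono a).1 (by rw [Category.assoc, hf, hg, Category.id_comp])⟩
  haveI : IsIso (P.map f).left := inferInstanceAs (IsIso ((Over.forget _).map (P.map f)))
  haveI : Smooth (Red.bc π₀ R).hom := BorelFix21.smooth_bc π₀ R
  refine (TorPts21.isUnipotentRadical_iff _).2 ⟨inferInstance, inferInstance, SubSpec19.normal_bc π₀ hun, inferInstance,
    ?_, ?_, UnipBC21.hasNoSubtorus_of_mono (P.map f) hns, fun V _ v _ hvc hvn hvs hvq hvcon hV => ?_⟩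
  · rw [show (Red.bc π₀ R).hom = (P.map u).left ≫ (P.obj N).hom from (Over.w (P.map u)).symm]
    haveI : IsAffine (Red.bc π₀ N).left := BorelFix21.isAffine_bc π₀ N
    infer_instance
  · exact (P.map f).left.homeomorph.symm.surjective.connectedSpace (P.map f).left.homeomorph.symm.continuous
  · obtain ⟨w, hw⟩ := huniv V v hvc hvn hvs hvq hvcon hV
    exact ⟨w ≫ P.map g, by rw [Category.assoc, ← P.map_comp, hg, hw]⟩

end Groth.Agent.RadBC15
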