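import Groth.Agent.Lib.RadBC15.Reductive
import Groth.Agent.Lib.TorPts21.RadicalChar
import Groth.Agent.Lib.TorPts21.BorelCentre

/-!
# The radical and maximal tori over a perfect field, geometrically
-/

set_option autoImplicit false
set_option linter.style.haveILetI false
set_option backward.isDefEq.respectTransparency false
set_option backward.isDefEq.respectTransparency.types false
set_option maxSynthPendingDepth 3
set_option synthInstance.maxHeartbeats 400000
universe u

open CategoryTheory CategoryTheory.Limits MonoidalCategory CartesianMonoidalCategory MonObj AlgebraicGeometry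
open Groth.Agent Groth.Agent.DiagGL Groth.Agent.MTRigid29

noncomputable section

namespace Groth.Agent.RadBC15

variable {k : Type u} [Field k]

local notation "π₀" => Spec.map (CommRingCat.ofHom (algebraMap k (AlgebraicClosure k)))

/-- Solvability may be checked after extending the field. -/
theorem isSolvableGrp_of_bc {K : Type u} [Field K] (φ : Spec (CommRingCat.of K) ⟶ Spec (CommRingCat.of k))
    {A : Over (Spec (CommRingCat.of k))} [GrpObj A] (h : Red.IsSolvableGrp (Red.bc φ A)) : Red.IsSolvableGrp A := by
  obtain ⟨n, hn⟩ := h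
  refine ⟨n, fun X => (Subgroup.eq_bot_iff_forall _).2 fun x hx => TorPts21.eq_of_bc φ x 1 ?_⟩
  let F : (X ⟶ A) →* (Red.bc φ X ⟶ Red.bc φ A) :=
    MonoidHom.mk' (fun y => (Over.pullback φ).map y) fun a b => Functor.map_mul _ _ _
  have h1 := map_derivedSeries_le_derivedSeries F n ⟨x, hx, rfl⟩
  rw [hn, Subgroup.mem_bot] at h1
  exact h1.trans (Functor.map_one _).symm

/-- The radical over a perfect field stays maximal over the algebraic closure. -/
theorem radical_bc_max [PerfectField k] {N R : Over (Spec (CommRingCat.of k))} [GrpObj N] [GrpObj R] [IsAffine N.left]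
    [Smooth N.hom] [ConnectedSpace N.left] (r : R ⟶ N)
    (hmax : ∀ (R₁ : Over (Spec (CommRingCat.of k))) [GrpObj R₁] (r₁ : R₁ ⟶ N) [IsMonHom r₁] [IsClosedImmersion r₁.left],
      Smooth R₁.hom → ConnectedSpace ↥R₁.left → Red.IsSolvableGrp R₁ → AlgGrp.IsNormalHom r₁ → ∃ f : R₁ ⟶ R, f ≫ r = r₁)
    (V : Over (Spec (CommRingCat.of (AlgebraicClosure k)))) [GrpObj V] (v : V ⟶ Red.bc π₀ N) [IsMonHom v]
    (hvc : IsClosedImmersion v.left) (hVs : Smooth V.hom) (hVn : ConnectedSpace V.left) (hvn : AlgGrp.IsNormalHom v)
    (hV : Red.IsSolvableGrp V) : ∃ f : V ⟶ Red.bc π₀ R, f ≫ (Over.pullback π₀).map r = v := by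
  let K := AlgebraicClosure k
  let π := Spec.map (CommRingCat.ofHom (algebraMap k K))
  haveI : IsSeparated N.hom := inferInstance
  haveI : IsAffine (Red.bc π N).left := BorelFix21.isAffine_bc π N
  haveI : Smooth (Red.bc π N).hom := BorelFix21.smooth_bc π N
  haveI : ConnectedSpace (Red.bc π N).left := BorelFix21.connectedSpace_bc π N
  obtain ⟨Z, _, i, him, hic, his, hicon, hin, hsol, huniv⟩ := TorPts21.exists_radical (G := Red.bc π N)
  haveI := him; haveI := hic; haveI := his; haveI := hicon
  haveI : IsAffine Z.left := isAffine_of_isAffineHom i.left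
  haveI : Mono i := Over.mono_of_mono_left i
  haveI : Algebra.IsSeparable k K := inferInstance
  haveI : Surjective π := ⟨fun z => ⟨IsLocalRing.closedPoint _, Subsingleton.elim (α := PrimeSpectrum k) _ _⟩⟩
  haveI : Flat π := inferInstance
  haveI : IsAffineHom Z.hom := inferInstance
  have hred : IsReduced (pullback π π) := by
    haveI : Algebra.IsGeometricallyReduced k K := SepAff15.isGeometricallyReduced_of_isSeparable k K
    haveI : _root_.IsReduced (TensorProduct k K K) := GeomRed21.isReduced_tensor_field K K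
    exact isReduced_of_isOpenImmersion (pullbackSpecIso k K K).hom
  have hcov : ∀ V : (Spec (CommRingCat.of k)).Opens, IsAffineOpen V →
      ∃ W : (Spec (CommRingCat.of K)).Opens, IsCompact (W : Set (Spec (CommRingCat.of K))) ∧
        π.base '' (W : Set (Spec (CommRingCat.of K))) = (V : Set _) := fun V hV =>
    ⟨π ⁻¹ᵁ V, π.isCompact_preimage hV.isCompact, Set.image_preimage_eq _ π.surjective⟩
  have hself : ∀ (T : Spec (CommRingCat.of K) ⟶ Spec (CommRingCat.of K)) (hT : T ≫ π = π),
      ∃ f, f ≫ i = twist i hT := fun T hT => by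
    haveI : IsMonHom (compIso hT N).hom := isMonHom_compIso hT N
    haveI : IsIso (compIso hT N).hom.left := inferInstanceAs (IsIso ((Over.forget _).map (compIso hT N).hom))
    haveI : IsMonHom (twist i hT) := isMonHom_twist i hT
    haveI : IsClosedImmersion ((Over.pullback T).map i).left := FrobSub19.isClosedImmersion_map T i ‹_›
    haveI : IsClosedImmersion (twist i hT).left :=
      inferInstanceAs (IsClosedImmersion (((Over.pullback T).map i).left ≫ (compIso hT N).hom.left))
    exact huniv (Red.bc T Z) (twist i hT) ‹_› (BorelFix21.smooth_bc T Z) (BorelFix21.connectedSpace_bc T Z)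
      (SubSpec19.normal_comp_iso (SubSpec19.normal_bc T hin) (compIso hT N).hom)
      (TorPts21.isSolvableGrp_bc T hsol)
  obtain ⟨A, _, a, ha, haI, φ, hφ⟩ :=
    AffPart25.exists_descent i (fun p => SepAff15.twist_indep i hself hred p) hcov
  haveI := ha; haveI := haI
  haveI : IsIso φ.hom.left := (inferInstance : IsIso ((Over.forget _).map φ.hom))
  haveI hmφ : IsMonHom φ.hom := TorsorSch25.isMonHom_of_points φ.hom fun T x y => (cancel_mono i).1 (by
    rw [Category.assoc, hφ, MonObj.mul_comp x y, MonObj.mul_comp (x ≫ φ.hom), Category.assoc, Category.assoc, hφ,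
      ← MonObj.mul_comp])
  haveI : IsClosedImmersion ((Over.pullback π).map a).left := by
    rw [← hφ, Over.comp_left]; infer_instance
  haveI : IsClosedImmersion a.left := by
    haveI := @FpqcDesc.descendsAlong_isClosedImmersion.{u}
    exact MorphismProperty.of_isPullback_of_descendsAlong (P := @IsClosedImmersion)
      (Q := @Surjective ⊓ @Flat ⊓ @QuasiCompact) (MTRigid29.isPullback_map_left π a).flip
      ⟨⟨inferInstance, inferInstance⟩, inferInstance⟩ ‹_›
  haveI : Smooth (Red.bc π A).hom := by rw [← Over.w φ.hom]; infer_instance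
  haveI : Smooth A.hom := MorphismProperty.of_pullback_snd_of_descendsAlong (P := @Smooth)
    (Q := @Surjective ⊓ @Flat ⊓ @QuasiCompact) ⟨⟨inferInstance, inferInstance⟩, inferInstance⟩
    (f := A.hom) (g := π) (by exact (inferInstance : Smooth (Red.bc π A).hom))
  haveI : ConnectedSpace A.left := TorPts21.connectedSpace_of_bc π
    (φ.hom.left.homeomorph.symm.surjective.connectedSpace φ.hom.left.homeomorph.symm.continuous)
  haveI : Mono a := Over.mono_of_mono_left a
  obtain ⟨g, hg⟩ := hmax A a ‹_› ‹_› (isSolvableGrp_of_bc π (TorPts21.isSolvableGrp_of_mono φ.hom hsol))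
    (SepAff15.isNormalHom_of_bc' π a i hin φ hφ)
  obtain ⟨f, hf⟩ := huniv V v hvc hVs hVn hvn hV
  exact ⟨f ≫ φ.inv ≫ (Over.pullback π).map g, by
    rw [Category.assoc, Category.assoc, ← Functor.map_comp, hg, ← hφ, Iso.inv_hom_id_assoc, hf]⟩

/-- Maximal tori stay maximal over the algebraic closure. -/
theorem isMaxTorus_algClosure {G T : Over (Spec (CommRingCat.of k))} [GrpObj G] [GrpObj T] {t : T ⟶ G}
    (hT : Red.IsMaximalTorus t) : AGF.IsMaxTorus ((Over.pullback π₀).map t) := by
  obtain ⟨hm, hmono, htor, hmax⟩ := hT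
  haveI := hm; haveI := hmono
  refine ⟨inferInstance, inferInstance, TorPts21.isTorus_bc _ htor, fun T' _ j _ _ f hT' hf => ?_⟩
  let s : ↥(Spec (CommRingCat.of k)) := IsLocalRing.closedPoint k
  obtain ⟨φ, hφi, hφ⟩ := exists_isIso_factor s
  haveI := hφi
  haveI : IsMonHom (compIso hφ G).hom := isMonHom_compIso hφ G
  haveI : Mono ((Over.pullback φ).map j ≫ (compIso hφ G).hom) := mono_comp _ _
  have hnat : (Over.pullback φ).map ((Over.pullback π₀).map t) ≫ (compIso hφ G).hom =
      (compIso hφ T).hom ≫ (Over.pullback (Red.geomPt s)).map t := by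
    ext1
    refine pullback.hom_ext ?_ ?_ <;> simp [compIso, pullback.congrHom_hom]
  have h := hmax s (Red.bc φ T') ((Over.pullback φ).map j ≫ (compIso hφ G).hom)
    ((compIso hφ T).inv ≫ (Over.pullback φ).map f) (TorPts21.isTorus_bc φ hT') (by
      rw [Category.assoc, ← Category.assoc ((Over.pullback φ).map f), ← Functor.map_comp, hf, hnat,
        Iso.inv_hom_id_assoc])
  haveI : IsIso (compIso hφ T).inv := (compIso hφ T).isIso_inv
  haveI : IsIso ((Over.pullback φ).map f) := IsIso.of_isIso_comp_left (compIso hφ T).inv _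
  haveI : IsIso ((Over.pullback φ).map f).left := inferInstanceAs (IsIso ((Over.forget _).map ((Over.pullback φ).map f)))
  haveI : IsIso f.left := MorphismProperty.of_isPullback_of_descendsAlong
    (P := MorphismProperty.isomorphisms Scheme) (Q := @Surjective ⊓ @Flat ⊓ @QuasiCompact)
    (MTRigid29.isPullback_map_left φ f).flip ⟨⟨inferInstance, inferInstance⟩, inferInstance⟩ ‹_›
  haveI : IsIso ((Over.forget _).map f) := ‹IsIso f.left›
  exact isIso_of_reflects_iso f (Over.forget _)

end Groth.Agent.RadBC15
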