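import Groth.Agent.Lib.TorPts21.RadicalImage
import Groth.Agent.Lib.TorPts21.DetTrick
import Groth.Agent.Lib.TorPts21.Structure
import Groth.Agent.Lib.RadMap15.Main
import Groth.Agent.Lib.SepAff15.Largest
import Groth.Agent.Lib.UInvFG21.Torus
import Groth.Agent.Lib.Semiab15.Basic

/-!
# The torus of the radical against the derived group and onto torus quotients
-/

set_option autoImplicit false
set_option linter.style.haveILetI false
set_option backward.isDefEq.respectTransparency false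
set_option backward.isDefEq.respectTransparency.types false
set_option maxSynthPendingDepth 3
set_option synthInstance.maxHeartbeats 400000
universe u

open CategoryTheory Limits MonoidalCategory CartesianMonoidalCategory MonObj AlgebraicGeometry
open Groth.Agent Groth.Agent.TorPts21 Groth.Agent.MatGrp21

noncomputable section

namespace Groth.Agent.RadBC15

attribute [local instance] InvRing21.gamAlg BorelFix21.ptsTop

variable {K : Type u} [Field K] [IsAlgClosed K]
  {N : Over (Spec (CommRingCat.of K))} [GrpObj N] [IsAffine N.left] [Smooth N.hom] [ConnectedSpace N.left]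

/-- A torus point in the unipotent radical is trivial. -/
theorem eq_one_of_mem_radical {U T : Over (Spec (CommRingCat.of K))} [GrpObj U] [GrpObj T] {u : U ⟶ N}
    (hU : Par.IsUnipotentRadical u) (hT : Red.IsTorus T) (t : T ⟶ N) [IsMonHom t] [Mono t]
    (σ : VecGrp.pt K K ⟶ T) (y : VecGrp.pt K K ⟶ U) (h : σ ≫ t = y ≫ u) : σ = 1 := by
  obtain ⟨hum, huc, -, hus, -, hucn, huns, -⟩ := (isUnipotentRadical_iff u).1 hU
  haveI := hum; haveI := huc; haveI := hus; haveI := hucn
  haveI : IsAffine U.left := isAffine_of_isAffineHom u.left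
  obtain ⟨n, r, hr, hrc, hu⟩ := exists_upper_embedding u (isSolvableGrp_of_hasNoSubtorus U huns)
  haveI := hr; haveI := hrc
  haveI : IsClosedImmersion (u ≫ r).left := by rw [Over.comp_left]; infer_instance
  have hl := range_le_lay_of_hasNoSubtorus (u ≫ r) hu huns
  obtain ⟨d, ⟨C⟩⟩ := exists_chars hT
  obtain ⟨P, hP⟩ := range_mtx_diag C (t ≫ r)
  haveI : Mono r := Over.mono_of_mono_left r
  haveI := isClosedImmersion_of_torus hT t
  haveI : IsClosedImmersion (t ≫ r).left := by rw [Over.comp_left]; infer_instance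
  refine mtxFn_injective (t ≫ r) ?_
  rw [← mtx_apply, ← mtx_apply, map_one]
  exact eq_one_of_isUnip_of_isDiag (hP _ ⟨σ, rfl⟩) (isUnip_of_mem_lay (hl ⟨y, by
    rw [mtx_comp, mtx_comp, h]⟩))

set_option maxHeartbeats 800000 in
/-- Torus points of a normal solvable subgroup meeting the derived group modulo the unipotent radical have
bounded order. -/
theorem exists_pow_eq_one {U S R T : Over (Spec (CommRingCat.of K))} [GrpObj U] [GrpObj S] [GrpObj R] [GrpObj T]
    {u : U ⟶ N} (hU : Par.IsUnipotentRadical u) (hS : Red.IsReductiveOver K S) (π : N ⟶ S) [IsMonHom π]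
    [Surjective π.left] [Flat π.left] [QuasiCompact π.left] (hu : u ≫ π = 1)
    (hker : ∀ x : VecGrp.pt K K ⟶ N, x ≫ π = 1 → ∃ y, y ≫ u = x)
    (r : R ⟶ N) [IsMonHom r] [IsClosedImmersion r.left] [Smooth R.hom] [ConnectedSpace R.left]
    (hrn : AlgGrp.IsNormalHom r) (hR : Red.IsSolvableGrp R) (t : T ⟶ R) [IsMonHom t] [Mono t] (hT : Red.IsTorus T) :
    ∃ n, 0 < n ∧ ∀ (σ : VecGrp.pt K K ⟶ T) (y : VecGrp.pt K K ⟶ U) (w : VecGrp.pt K K ⟶ N),
      w ∈ commutator (VecGrp.pt K K ⟶ N) → σ ≫ t ≫ r = (y ≫ u) * w → σ ^ n = 1 := by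
  obtain ⟨hSa, hSs, hSc, -⟩ := id hS
  haveI := hSa; haveI := hSs; haveI := hSc
  haveI : Mono r := Over.mono_of_mono_left r
  haveI : IsAffine R.left := isAffine_of_isAffineHom r.left
  obtain ⟨J, _, j, g, hj, hjc, hgm, hgf, hgs, hgq, hgj, hJs, hJc, hJa⟩ := SepAff15.exists_affine_image' (r ≫ π)
  haveI := hj; haveI := hjc; haveI := hgm; haveI := hgf; haveI := hgs; haveI := hgq; haveI := hJs; haveI := hJc
  haveI := hJa
  haveI : Mono j := Over.mono_of_mono_left j
  have hJn : AlgGrp.IsNormalHom j := SepAff15.isNormalHom_image π r hrn j g hgj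
  have hJsol : Red.IsSolvableGrp J := by
    refine BorelFix21.isSolvableGrp_of_points ?_
    obtain ⟨m, hm⟩ := hR
    haveI : Group.IsSolvable (VecGrp.pt K K ⟶ R) := (Group.isSolvable_def _).2 ⟨m, hm _⟩
    exact Group.isSolvable_of_surjective (f := ptsHom g) (fun y => BorelFix21.exists_pt_lift g y)
  obtain ⟨hJT, hcen⟩ := torus_of_normal_solvable hS hJn hJsol
  obtain ⟨n, hn, hpow⟩ := exists_pow_eq_one_of_mem_commutator hJT j
  refine ⟨n, hn, fun σ y w hw he => ?_⟩
  have h1 : ((σ ≫ t) ≫ g) ≫ j = w ≫ π := by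
    rw [Category.assoc, hgj, ← Category.assoc, Category.assoc σ t r, he, MonObj.mul_comp, Category.assoc, hu,
      MonObj.comp_one, _root_.one_mul]
  have h2 : ((σ ≫ t) ≫ g) ≫ j ∈ commutator (VecGrp.pt K K ⟶ S) := by
    rw [h1, commutator_def]
    have h := Subgroup.mem_map_of_mem (ptsHom π) hw
    rw [commutator_def, Subgroup.map_commutator] at h
    exact Subgroup.commutator_mono le_top le_top h
  have h3 := hpow ((σ ≫ t) ≫ g) (fun x => hcen _ x _) h2
  obtain ⟨y', hy'⟩ := hker ((σ ^ n) ≫ t ≫ r) (by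
    have hg' : ((σ ^ n) ≫ t) ≫ g = 1 := by
      rw [← h3]
      exact (map_pow ((ptsHom g).comp (ptsHom t)) σ n)
    rw [← Category.assoc (σ ^ n), Category.assoc _ r π, ← hgj, ← Category.assoc ((σ ^ n) ≫ t), hg', MonObj.one_comp])
  haveI : Mono (t ≫ r) := mono_comp t r
  exact eq_one_of_mem_radical hU hT (t ≫ r) (σ ^ n) y' hy'.symm

set_option maxHeartbeats 800000 in
/-- A maximal torus of a connected solvable group maps onto every torus quotient. -/
theorem exists_torus_preimage {R T τ : Over (Spec (CommRingCat.of K))} [GrpObj R] [GrpObj T] [GrpObj τ]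
    [IsAffine R.left] [Smooth R.hom] [ConnectedSpace R.left] {t : T ⟶ R} (hT : AGF.IsMaxTorus t)
    (hτ : Red.IsTorus τ) (f : R ⟶ τ) [IsMonHom f] [Surjective f.left] (y : VecGrp.pt K K ⟶ τ) :
    ∃ σ : VecGrp.pt K K ⟶ T, σ ≫ t ≫ f = y := by
  haveI := hT.1
  obtain ⟨hτa, hτs, hτc, -⟩ := props_of_isTorus hτ
  haveI := hτa; haveI := hτs; haveI := hτc
  obtain ⟨hl, hq, -, hcomm⟩ := Semiab15.torus_props hτ
  haveI := hcomm
  obtain ⟨V, _, v, hV, -⟩ := exists_unipotentRadical_connected R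
  obtain ⟨V', _, v', hV', -⟩ := exists_unipotentRadical_connected τ
  obtain ⟨fV, hfV, -⟩ := exists_image_radical f hV hV'
  obtain ⟨hvm', hvc', hvn', hvs', -, hvcn', hvns', -⟩ := (isUnipotentRadical_iff v').1 hV'
  haveI := hvm'
  haveI : IsIso V'.hom := (UInvFG21.isReductiveOver_torus hτ).2.2.2 V' v' hvc' hvs' hvcn' hvn' hvns'
  have hv : v ≫ f = 1 := by
    rw [← hfV, show fV = 1 from Over.OverMorphism.ext ((cancel_mono V'.hom).1 (by rw [Over.w, Over.w])),
      MonObj.one_comp]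
  let P : Subgroup (VecGrp.pt K K ⟶ R) := (ptsHom (t ≫ f)).range.comap (ptsHom f)
  haveI : P.Normal := ⟨fun x hx g => by
    show (g * x * g⁻¹) ≫ f ∈ (ptsHom (t ≫ f)).range
    letI := Hom.commMonoid (M := τ) (X := VecGrp.pt K K)
    rw [MonObj.mul_comp, MonObj.mul_comp, GrpObj.inv_comp, _root_.mul_comm (g ≫ f), mul_inv_cancel_right]
    exact hx⟩
  have htop : P = ⊤ := eq_top_of_cartan hV hT P (fun σ => ⟨σ, (Category.assoc σ t f).symm⟩) fun w => ⟨1, by
    show (1 : VecGrp.pt K K ⟶ T) ≫ t ≫ f = (w ≫ v) ≫ f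
    rw [MonObj.one_comp, Category.assoc, hv, MonObj.comp_one]⟩
  obtain ⟨x, rfl⟩ := BorelFix21.exists_pt_lift f y
  obtain ⟨σ, hσ⟩ : x ∈ P := htop ▸ Subgroup.mem_top x
  exact ⟨σ, hσ⟩

set_option maxHeartbeats 800000 in
/-- The radical maps onto every torus quotient. -/
theorem surjective_to_torus {R τ : Over (Spec (CommRingCat.of K))} [GrpObj R] [GrpObj τ]
    (r : R ⟶ N) [IsMonHom r] [IsClosedImmersion r.left] [Smooth R.hom] [ConnectedSpace R.left]
    (hRs : Red.IsSolvableGrp R) (hrn : AlgGrp.IsNormalHom r)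
    (hmax : ∀ (V : Over (Spec (CommRingCat.of K))) [GrpObj V] (v : V ⟶ N) [IsMonHom v], IsClosedImmersion v.left →
      Smooth V.hom → ConnectedSpace V.left → AlgGrp.IsNormalHom v → Red.IsSolvableGrp V → ∃ f : V ⟶ R, f ≫ r = v)
    (hτ : Red.IsTorus τ) (π : N ⟶ τ) [IsMonHom π] [Flat π.left] [Surjective π.left] : Surjective (r ≫ π).left := by
  obtain ⟨hτa, hτs, hτc, hτsol⟩ := props_of_isTorus hτ
  haveI := hτa; haveI := hτs; haveI := hτc
  haveI : IsClosedImmersion (𝟙 τ : τ ⟶ τ).left := inferInstanceAs (IsClosedImmersion (𝟙 τ.left))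
  obtain ⟨f, hf, hfs⟩ := RadMap15.exists_hom_surjective N τ π R r hRs hrn
    (fun V _ v _ hvc _ _ hV hvn => hmax V v hvc ‹_› ‹_› hvn hV) τ (𝟙 τ) hτsol
    (fun T g n => ⟨g * n * g⁻¹, by rw [Category.comp_id, Category.comp_id]⟩)
    (fun V _ v _ _ _ _ _ _ => ⟨v, Category.comp_id v⟩)
  rw [Category.comp_id] at hf
  exact hf ▸ hfs
  
end Groth.Agent.RadBC15
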