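import Groth.Agent.Lib.RadBC15.Invariant
import Groth.Agent.Lib.RadBC15.Solv
import Groth.Agent.Lib.RadBC15.Comm
import Groth.Agent.Lib.RadBC15.TorusPts
import Groth.Agent.Lib.TorPts21.CentreFinite
import Groth.Agent.Lib.ConstrPt19.Basic
import Groth.Agent.Lib.Weight4.DegRank

/-!
# The maximal torus of the radical as a quasi-complement
-/

set_option autoImplicit false
set_option linter.style.haveILetI false
set_option backward.isDefEq.respectTransparency false
set_option backward.isDefEq.respectTransparency.types false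
set_option maxSynthPendingDepth 3
set_option synthInstance.maxHeartbeats 400000
universe u

open CategoryTheory CategoryTheory.Limits MonoidalCategory CartesianMonoidalCategory MonObj AlgebraicGeometry
open Groth.Agent

noncomputable section

namespace Groth.Agent.RadBC15

variable {k : Type u} [Field k]

local notation "π₀" => Spec.map (CommRingCat.ofHom (algebraMap k (AlgebraicClosure k)))

attribute [local instance] InvRing21.gamAlg BorelFix21.ptsTop

/-- Affine semi-abelian groups are tori. -/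
theorem isTorus_of_SA {Q : Over (Spec (CommRingCat.of k))} [GrpObj Q] [IsAffine Q.left] [Smooth Q.hom]
    [ConnectedSpace Q.left] (hQ : SAQuot15.IsSAExt Q) : Red.IsTorus Q := by
  haveI : IsAffine (Red.bc π₀ Q).left := BorelFix21.isAffine_bc π₀ Q
  haveI : Smooth (Red.bc π₀ Q).hom := BorelFix21.smooth_bc π₀ Q
  haveI : ConnectedSpace (Red.bc π₀ Q).left := BorelFix21.connectedSpace_bc π₀ Q
  exact TorPts21.isTorus_of_bc π₀ (AffLine15.isTorus_of_const _ fun f => SAQuot15.const_bc π₀ hQ f)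

/-- The image of an affine group in a semi-abelian one is a torus. -/
theorem exists_torus_image {N Q : Over (Spec (CommRingCat.of k))} [GrpObj N] [GrpObj Q] [IsAffine N.left]
    [Smooth N.hom] [ConnectedSpace N.left] [LocallyOfFiniteType Q.hom] [QuasiCompact Q.hom]
    (hQ : SAQuot15.IsSAExt Q) (f : N ⟶ Q) [IsMonHom f] :
    ∃ (τ : Over (Spec (CommRingCat.of k))) (_ : GrpObj τ) (j : τ ⟶ Q) (g : N ⟶ τ), IsMonHom j ∧
      IsClosedImmersion j.left ∧ IsMonHom g ∧ Flat g.left ∧ Surjective g.left ∧ g ≫ j = f ∧ Red.IsTorus τ := by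
  obtain ⟨τ, _, j, g, hj, hjc, hgm, hgf, hgs, hgq, hgj, hτs, hτc, hτa⟩ := SepAff15.exists_affine_image' f
  haveI := hj; haveI := hjc; haveI := hτs; haveI := hτc; haveI := hτa
  haveI : Mono j := Over.mono_of_mono_left j
  haveI : IsAffine (Red.bc π₀ τ).left := BorelFix21.isAffine_bc π₀ τ
  haveI : Smooth (Red.bc π₀ τ).hom := BorelFix21.smooth_bc π₀ τ
  haveI : ConnectedSpace (Red.bc π₀ τ).left := BorelFix21.connectedSpace_bc π₀ τ
  refine ⟨τ, inferInstance, j, g, hj, hjc, hgm, hgf, hgs, hgj, TorPts21.isTorus_of_bc π₀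
    (AffLine15.isTorus_of_const _ fun f₀ => (cancel_mono ((Over.pullback π₀).map j)).1 ?_)⟩
  rw [Category.assoc, Category.assoc]
  exact SAQuot15.const_bc π₀ hQ (f₀ ≫ (Over.pullback π₀).map j)

variable [PerfectField k] {G N R T H Q : Over (Spec (CommRingCat.of k))} [GrpObj G] [GrpObj N] [GrpObj R] [GrpObj T]
  [GrpObj H] [GrpObj Q] [IsAffine N.left] [Smooth N.hom] [ConnectedSpace N.left]
  (r : R ⟶ N) [IsMonHom r] [IsClosedImmersion r.left] [Smooth R.hom] [ConnectedSpace R.left]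
  (hRs : Red.IsSolvableGrp R) (hRn : AlgGrp.IsNormalHom r)

/-- The product of the maximal torus of the radical with the kernel of a map to a semi-abelian group is everything. -/
theorem surjective_mul (hRs : Red.IsSolvableGrp R) (hRn : AlgGrp.IsNormalHom r)
    (hRmax : ∀ (R₁ : Over (Spec (CommRingCat.of k))) [GrpObj R₁] (r₁ : R₁ ⟶ N) [IsMonHom r₁] [IsClosedImmersion r₁.left],
      Smooth R₁.hom → ConnectedSpace ↥R₁.left → Red.IsSolvableGrp R₁ → AlgGrp.IsNormalHom r₁ → ∃ f : R₁ ⟶ R, f ≫ r = r₁)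
    {t : T ⟶ R} (hT : Red.IsMaximalTorus t) (i : N ⟶ G) [IsMonHom i] [Mono i]
    [LocallyOfFiniteType Q.hom] [QuasiCompact Q.hom] (hQ : SAQuot15.IsSAExt Q) (qH : G ⟶ Q) [IsMonHom qH]
    (h : H ⟶ G) [IsMonHom h] [Mono h] [LocallyOfFiniteType H.hom] [QuasiCompact H.hom]
    (hHker : AlgGrp.IsKernel h qH) (g : H ⟶ N) (hg : g ≫ i = h) :
    Surjective (((t ≫ r) ⊗ₘ g) ≫ μ[N]).left := by
  let K := AlgebraicClosure k
  let P := Over.pullback π₀
  haveI := hT.1
  obtain ⟨hTa, hTs, -, -⟩ := Semiab15.torus_props hT.2.2.1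
  haveI := hTa; haveI := hTs
  obtain ⟨τ, _, j, φ, hj, hjc, hφm, hφf, hφs, hφj, hτ⟩ := exists_torus_image hQ (i ≫ qH)
  haveI := hj; haveI := hjc; haveI := hφm; haveI := hφf; haveI := hφs
  haveI : Mono j := Over.mono_of_mono_left j
  haveI : IsMonHom g := BorelFix21.isMonHom_of_comp i g (hg ▸ inferInstance)
  haveI : IsAffine R.left := isAffine_of_isAffineHom r.left
  haveI : IsAffine (Red.bc π₀ N).left := BorelFix21.isAffine_bc π₀ N
  haveI : Smooth (Red.bc π₀ N).hom := BorelFix21.smooth_bc π₀ N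
  haveI : ConnectedSpace (Red.bc π₀ N).left := BorelFix21.connectedSpace_bc π₀ N
  haveI : IsAffine (Red.bc π₀ R).left := BorelFix21.isAffine_bc π₀ R
  haveI : Smooth (Red.bc π₀ R).hom := BorelFix21.smooth_bc π₀ R
  haveI : ConnectedSpace (Red.bc π₀ R).left := BorelFix21.connectedSpace_bc π₀ R
  haveI : IsClosedImmersion (P.map r).left := FrobSub19.isClosedImmersion_map π₀ r ‹_›
  haveI : Flat (P.map φ).left := MorphismProperty.of_isPullback (MTRigid29.isPullback_map_left π₀ φ) hφf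
  haveI : Surjective (P.map φ).left := MorphismProperty.of_isPullback (MTRigid29.isPullback_map_left π₀ φ) hφs
  have hτK := TorPts21.isTorus_bc π₀ hτ
  haveI hsR : Surjective (P.map r ≫ P.map φ).left := surjective_to_torus (P.map r)
    (TorPts21.isSolvableGrp_bc π₀ hRs) (SubSpec19.normal_bc π₀ hRn)
    (fun V _ v _ h1 h2 h3 h4 h5 => radical_bc_max r hRmax V v h1 h2 h3 h4 h5) hτK (P.map φ)
  let F : T ⊗ H ⟶ N := (fst T H ≫ t ≫ r) * (snd T H ≫ g)
  have hF : ((t ≫ r) ⊗ₘ g) ≫ μ[N] = F := by rw [← lift_fst_comp_snd_comp, ← Hom.mul_def]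
  rw [hF]
  have hpts : ∀ n : VecGrp.pt K K ⟶ Red.bc π₀ N, ∃ w : VecGrp.pt K K ⟶ Red.bc π₀ (T ⊗ H), w ≫ P.map F = n := by
    intro n
    obtain ⟨σ, hσ⟩ := exists_torus_preimage (isMaxTorus_algClosure hT) hτK (P.map r ≫ P.map φ) (n ≫ P.map φ)
    let x : VecGrp.pt K K ⟶ Red.bc π₀ N := σ ≫ P.map t ≫ P.map r
    have hx : x ≫ P.map φ = n ≫ P.map φ := by simp only [x, Category.assoc]; exact hσ
    have h1 : ((x⁻¹ * n) ≫ P.map i) ≫ P.map qH = 1 := by
      rw [Category.assoc, ← Functor.map_comp, ← hφj, Functor.map_comp, ← Category.assoc, MonObj.mul_comp,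
        GrpObj.inv_comp, hx, inv_mul_cancel, MonObj.one_comp]
    obtain ⟨h₀, hh₀, -⟩ := (AffPart25.isKernel_bc h qH hHker π₀).exists_lift ((x⁻¹ * n) ≫ P.map i) (toUnit _)
      (h1.trans Hom.one_def)
    haveI : Mono (P.map i) := inferInstance
    have hh : h₀ ≫ P.map g = x⁻¹ * n := by
      rw [← cancel_mono (P.map i), Category.assoc, ← Functor.map_comp, hg]; exact hh₀
    refine ⟨lift σ h₀ ≫ Functor.LaxMonoidal.μ P T H, ?_⟩
    rw [Functor.map_mul, MonObj.comp_mul, Functor.map_comp, Functor.map_comp, Functor.map_comp, Category.assoc,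
      Category.assoc, Functor.Monoidal.μ_fst_assoc, Functor.Monoidal.μ_snd_assoc, lift_fst_assoc, lift_snd_assoc, hh]
    exact mul_inv_cancel_left _ _
  haveI : LocallyOfFiniteType (T ⊗ H).hom := inferInstanceAs (LocallyOfFiniteType (pullback.fst T.hom H.hom ≫ T.hom))
  haveI : QuasiCompact (T ⊗ H).hom := inferInstanceAs (QuasiCompact (pullback.fst T.hom H.hom ≫ T.hom))
  haveI : LocallyOfFiniteType (Red.bc π₀ (T ⊗ H)).hom := inferInstanceAs (LocallyOfFiniteType (pullback.snd _ π₀))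
  haveI : QuasiCompact (Red.bc π₀ (T ⊗ H)).hom := inferInstanceAs (QuasiCompact (pullback.snd _ π₀))
  haveI : IsLocallyNoetherian (Red.bc π₀ N).left := LocallyOfFiniteType.isLocallyNoetherian (Red.bc π₀ N).hom
  haveI : JacobsonSpace (Red.bc π₀ N).left := LocallyOfFiniteType.jacobsonSpace (Red.bc π₀ N).hom
  haveI : LocallyOfFiniteType (P.map F).left := AlgGrpBasic19.lft_left _
  haveI : LocallyOfFinitePresentation (P.map F).left := VarDim.locallyOfFinitePresentation_of_locallyNoetherian _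
  haveI : QuasiCompact (P.map F).left := AlgGrpBasic19.quasiCompact_left _
  haveI : Surjective (P.map F).left := ConstrPt19.surjective_of_closedPoints _ fun z hz => by
    obtain ⟨n, rfl⟩ := BorelFix21.exists_pt_of_closed z hz
    obtain ⟨w, hw⟩ := hpts n
    exact ⟨InvRing21.img w, by rw [← hw]; rfl⟩
  haveI : Surjective π₀ := ⟨fun z => ⟨IsLocalRing.closedPoint _, Subsingleton.elim (α := PrimeSpectrum k) _ _⟩⟩
  have hsq := MTRigid29.isPullback_map_left π₀ F
  haveI : Surjective (pullback.fst N.hom π₀) := MorphismProperty.pullback_fst _ _ ‹Surjective π₀›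
  haveI : Surjective (pullback.fst (T ⊗ H).hom π₀ ≫ F.left) := by
    have e : (P.map F).left ≫ pullback.fst N.hom π₀ = pullback.fst (T ⊗ H).hom π₀ ≫ F.left := pullback.lift_fst _ _ _
    rw [← e]; infer_instance
  exact Surjective.of_comp (pullback.fst (T ⊗ H).hom π₀) F.left

/-- A torus of the radical meets the kernel of every torus quotient killing only `R_u` and commutators finitely. -/
theorem finite_inter {A : Over (Spec (CommRingCat.of k))} [GrpObj A] {a : A ⟶ N}
    (ha : Par.IsUnipotentRadical a) (haK : Par.IsUnipotentRadical ((Over.pullback π₀).map a))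
    {D : Over (Spec (CommRingCat.of k))} [GrpObj D] (d : D ⟶ N)
    (hD : ∀ x : VecGrp.pt (AlgebraicClosure k) (AlgebraicClosure k) ⟶ Red.bc π₀ D,
      x ≫ (Over.pullback π₀).map d ∈ commutator (VecGrp.pt (AlgebraicClosure k) (AlgebraicClosure k) ⟶ Red.bc π₀ N))
    {Q₁ : Over (Spec (CommRingCat.of k))} [GrpObj Q₁] (q₁ : N ⟶ Q₁) [IsMonHom q₁]
    (hq₁ : ∀ (W : Over (Spec (CommRingCat.of k))) (x : W ⟶ N), x ≫ q₁ = 1 →
        ∃ (W' : Over (Spec (CommRingCat.of k))) (p : W' ⟶ W) (z : W' ⟶ A) (w : W' ⟶ D), Surjective p.left ∧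
          LocallyOfFiniteType p.left ∧ p ≫ x = (z ≫ a) * (w ≫ d))
    (hRs : Red.IsSolvableGrp R) (hRn : AlgGrp.IsNormalHom r) (t : T ⟶ R) [IsMonHom t] [Mono t] (hT : Red.IsTorus T)
    {Kt : Over (Spec (CommRingCat.of k))} [GrpObj Kt] (κ : Kt ⟶ T) [Mono κ] [LocallyOfFiniteType Kt.hom]
    [QuasiCompact Kt.hom] (hκ : κ ≫ t ≫ r ≫ q₁ = 1) : IsFinite Kt.hom := by
  let K := AlgebraicClosure k
  let P := Over.pullback π₀
  obtain ⟨ham, hac, han, -⟩ := id ha
  haveI := ham; haveI := hac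
  obtain ⟨S, _, qS, hqS, hqSf, hqSs, hqSq, -, hkS, hSl, hSq⟩ := AffPart25.exists_quotient_any a han
  haveI := hqS; haveI := hqSf; haveI := hqSs; haveI := hqSq; haveI := hSl; haveI := hSq
  haveI : Smooth S.hom := AffQuot19.smooth_target N S qS
  haveI : IsAffine S.left := AffQuot19.isAffine_target N S qS
  have ha1 : a ≫ qS = 1 := hkS.w.trans Hom.one_def.symm
  have hred := isReductiveOver_of_killed ha qS ha1
  haveI : IsAffine (Red.bc π₀ N).left := BorelFix21.isAffine_bc π₀ N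
  haveI : Smooth (Red.bc π₀ N).hom := BorelFix21.smooth_bc π₀ N
  haveI : ConnectedSpace (Red.bc π₀ N).left := BorelFix21.connectedSpace_bc π₀ N
  haveI : Smooth (Red.bc π₀ R).hom := BorelFix21.smooth_bc π₀ R
  haveI : ConnectedSpace (Red.bc π₀ R).left := BorelFix21.connectedSpace_bc π₀ R
  haveI : IsClosedImmersion (P.map r).left := FrobSub19.isClosedImmersion_map π₀ r ‹_›
  haveI : Flat (P.map qS).left := MorphismProperty.of_isPullback (MTRigid29.isPullback_map_left π₀ qS) hqSf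
  haveI : Surjective (P.map qS).left := MorphismProperty.of_isPullback (MTRigid29.isPullback_map_left π₀ qS) hqSs
  haveI : QuasiCompact (P.map qS).left := MorphismProperty.of_isPullback (MTRigid29.isPullback_map_left π₀ qS) hqSq
  obtain ⟨n, hn, hpow⟩ := exists_pow_eq_one haK hred (P.map qS)
    (by rw [← Functor.map_comp, ha1, Functor.map_one])
    (fun x hx => by
      obtain ⟨y, hy, -⟩ := (AffPart25.isKernel_bc a qS hkS π₀).exists_lift x (toUnit _) (hx.trans Hom.one_def)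
      exact ⟨y, hy⟩)
    (P.map r) (SubSpec19.normal_bc π₀ hRn) (TorPts21.isSolvableGrp_bc π₀ hRs) (P.map t) (TorPts21.isTorus_bc π₀ hT)
  obtain ⟨hTl, hTq, -, -⟩ := Semiab15.torus_props hT
  haveI := hTl; haveI := hTq
  obtain ⟨W', p, z, w, hp, hpl, hpx⟩ := hq₁ Kt (κ ≫ t ≫ r) (by rw [Category.assoc, Category.assoc]; exact hκ)
  haveI := hp; haveI := hpl
  haveI : LocallyOfFiniteType W'.hom := by rw [← Over.w p]; infer_instance
  haveI : LocallyOfFiniteType (Red.bc π₀ W').hom := inferInstanceAs (LocallyOfFiniteType (pullback.snd _ π₀))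
  haveI : LocallyOfFiniteType (Red.bc π₀ Kt).hom := inferInstanceAs (LocallyOfFiniteType (pullback.snd _ π₀))
  haveI : Surjective (P.map p).left := MorphismProperty.of_isPullback (MTRigid29.isPullback_map_left π₀ p) hp
  have hmem : ∀ y : VecGrp.pt K K ⟶ Red.bc π₀ Kt, (y ≫ P.map κ) ^ n = 1 := by
    intro y
    obtain ⟨m, hm⟩ := BorelFix21.exists_pt_lift (P.map p) y
    refine hpow (y ≫ P.map κ) (m ≫ P.map z) ((m ≫ P.map w) ≫ P.map d) (hD _) ?_
    rw [← hm, Category.assoc, Category.assoc, ← Functor.map_comp, ← Functor.map_comp, ← Functor.map_comp, hpx,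
      Functor.map_mul, MonObj.comp_mul, Functor.map_comp, Functor.map_comp, Category.assoc, Category.assoc]
  haveI : IsSeparated Kt.hom := AbRigid.isSeparated_of_grpObj Kt
  haveI : IsSeparated (Red.bc π₀ Kt).hom := inferInstanceAs (IsSeparated (pullback.snd _ π₀))
  haveI : IsAffine (Red.bc π₀ T).left := by
    obtain ⟨hTa, -⟩ := TorPts21.props_of_isTorus (TorPts21.isTorus_bc π₀ hT)
    exact hTa
  have hfin : Finite (VecGrp.pt K K ⟶ Red.bc π₀ Kt) := by
    haveI := (TorPts21.finite_torsion (TorPts21.isTorus_bc π₀ hT) hn).to_subtype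
    exact Finite.of_injective (fun y => (⟨y ≫ P.map κ, hmem y⟩ : {τ : VecGrp.pt K K ⟶ Red.bc π₀ T | τ ^ n = 1}))
      fun y y' h => (cancel_mono (P.map κ)).1 (congrArg Subtype.val h)
  haveI : Finite ↥(Red.bc π₀ Kt).left := TorPts21.finite_of_finite_pts hfin
  haveI : Surjective π₀ := ⟨fun z => ⟨IsLocalRing.closedPoint _, Subsingleton.elim (α := PrimeSpectrum k) _ _⟩⟩
  haveI : Surjective (pullback.fst Kt.hom π₀) := MorphismProperty.pullback_fst _ _ ‹Surjective π₀›
  haveI : Finite ↥(pullback Kt.hom π₀) := ‹Finite ↥(Red.bc π₀ Kt).left›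
  haveI : Finite ↥Kt.left := Finite.of_surjective _ (pullback.fst Kt.hom π₀).surjective
  haveI : LocallyQuasiFinite Kt.hom :=
    locallyQuasiFinite_iff_finite_preimage_singleton.2 fun _ => Set.toFinite _
  exact DegRank.isFinite_of_finite Kt.hom

end Groth.Agent.RadBC15

namespace Groth.Agent.RadBC15

variable {k : Type u} [Field k]

/-- The target of a quotient map of a group of finite type is of finite type. -/
theorem locallyOfFiniteType_target {G H Q : Over (Spec (CommRingCat.of k))} [GrpObj G] [GrpObj H] [GrpObj Q]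
    [LocallyOfFiniteType G.hom] [QuasiCompact G.hom] (h : H ⟶ G) [IsMonHom h] [IsClosedImmersion h.left]
    (hHn : AlgGrp.IsNormalHom h) (qH : G ⟶ Q) [IsMonHom qH] [Surjective qH.left] [Flat qH.left]
    (hHker : AlgGrp.IsKernel h qH) : LocallyOfFiniteType Q.hom := by
  haveI : IsSeparated Q.hom := AbRigid.isSeparated_of_grpObj Q
  haveI : QuasiCompact (qH.left ≫ Q.hom) := by rw [Over.w]; infer_instance
  haveI : QuasiCompact qH.left := QuasiCompact.of_comp qH.left Q.hom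
  obtain ⟨Q₂, _, q₂, hm, hf, hs, hc, -, hk, hl, -⟩ := AffPart25.exists_quotient_any h hHn
  haveI := hm; haveI := hf; haveI := hs; haveI := hc; haveI := hl
  obtain ⟨e, he, -⟩ := AffPart25.exists_desc_hom h q₂ hk qH (hHker.w.trans Hom.one_def.symm)
  obtain ⟨d', hd', -⟩ := AffPart25.exists_desc_hom h qH hHker q₂ (hk.w.trans Hom.one_def.symm)
  haveI := AlgGrpBasic19.epi_of_cover qH
  haveI := AlgGrpBasic19.epi_of_cover q₂
  haveI : IsIso d' := ⟨e, by rw [← cancel_epi qH, reassoc_of% hd', he, Category.comp_id],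
    by rw [← cancel_epi q₂, reassoc_of% he, hd', Category.comp_id]⟩
  haveI : IsIso d'.left := inferInstanceAs (IsIso ((Over.forget _).map d'))
  rw [← Over.w d']
  infer_instance

set_option maxHeartbeats 1000000 in
/-- The maximal torus of the radical meets `G_gug` finitely. -/
theorem isFinite_inter [PerfectField k] (G : Over (Spec (CommRingCat.of k))) [GrpObj G] [Smooth G.hom]
    [QuasiCompact G.hom] [ConnectedSpace G.left]
    (N : Over (Spec (CommRingCat.of k))) [GrpObj N] (i : N ⟶ G) [IsMonHom i] [IsClosedImmersion i.left]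
    [Smooth N.hom] [IsAffine N.left] [ConnectedSpace N.left] (hN : AlgGrp.IsNormalHom i)
    (A : Over (Spec (CommRingCat.of k))) [GrpObj A] (q : G ⟶ A) [IsMonHom q] [Surjective q.left] [Flat q.left]
    [IsProper A.hom] [Smooth A.hom] [ConnectedSpace A.left] (hq : AlgGrp.IsKernel i q)
    (R : Over (Spec (CommRingCat.of k))) [GrpObj R] (r : R ⟶ N) [IsMonHom r] [IsClosedImmersion r.left]
    [Smooth R.hom] [ConnectedSpace R.left] (hRs : Red.IsSolvableGrp R) (hRn : AlgGrp.IsNormalHom r)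
    (T : Over (Spec (CommRingCat.of k))) [GrpObj T] (t : T ⟶ R) [IsMonHom t] [Mono t] (hT : Red.IsTorus T)
    (H : Over (Spec (CommRingCat.of k))) [GrpObj H] (h : H ⟶ G) [IsMonHom h] [IsClosedImmersion h.left]
    (hHmin : ∀ (H' : Over (Spec (CommRingCat.of k))) [GrpObj H'] (h' : H' ⟶ G) [IsMonHom h'] [IsClosedImmersion h'.left]
        (Q' : Over (Spec (CommRingCat.of k))) [GrpObj Q'] (q' : G ⟶ Q') [IsMonHom q'] [Surjective q'.left] [Flat q'.left],
        AlgGrp.IsNormalHom h' → Smooth H'.hom → ConnectedSpace ↥H'.left → AlgGrp.IsKernel h' q' →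
        SAQuot15.IsSAExt Q' → ∃ f : H ⟶ H', f ≫ h' = h)
    (g : H ⟶ N) (hg : g ≫ i = h)
    (P : Over (Spec (CommRingCat.of k))) (p₁ : P ⟶ T) (p₂ : P ⟶ H) (hP : IsPullback p₁ p₂ (t ≫ r) g) :
    IsFinite P.hom := by
  let K := AlgebraicClosure k
  haveI : IsSeparated G.hom := AbRigid.isSeparated_of_grpObj G
  haveI : Mono i := Over.mono_of_mono_left i
  obtain ⟨A₀, _, a, ha, haK⟩ := exists_radical_bc N
  obtain ⟨D, _, d, hdm, hdc, hDn, hD, hDK⟩ := exists_commutator N
  haveI := hdm; haveI := hdc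
  haveI : IsMonHom (𝟙 N) := inferInstance
  obtain ⟨Q₁, _, q₁, hq₁m, hq₁s, hq₁f, hQ₁l, hQ₁q, hSA, hrange⟩ :=
    exists_quot_SA N (𝟙 N) (fun N₁ _ i₁ _ _ _ _ _ => ⟨i₁, Category.comp_id i₁⟩) ha d hDn hD
  haveI := hq₁m; haveI := hq₁s; haveI := hq₁f; haveI := hQ₁l; haveI := hQ₁q
  haveI : QuasiCompact q₁.left := AlgGrpBasic19.quasiCompact_left q₁
  haveI : IsAffine Q₁.left := AffQuot19.isAffine_target N Q₁ q₁
  haveI : Smooth Q₁.hom := AffQuot19.smooth_target N Q₁ q₁
  haveI : ConnectedSpace Q₁.left := q₁.left.surjective.connectedSpace q₁.left.continuous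
  have hQ₁T := isTorus_of_SA hSA
  haveI := (Semiab15.torus_props hQ₁T).2.2.2
  obtain ⟨M₀, _, m₀, hm₀, hm₀c, hk₀⟩ := CharTorus15.exists_kernel q₁
  haveI := hm₀; haveI := hm₀c
  haveI : IsClosedImmersion (m₀ ≫ i).left := by rw [Over.comp_left]; infer_instance
  have hn₀ : AlgGrp.IsNormalHom (m₀ ≫ i) := fun W x n => by
    obtain ⟨n', hn', hn'q⟩ := exists_conj_invariant i q q₁ hN hq x (n ≫ m₀)
    obtain ⟨l, hl⟩ := CharTorus15.exists_lift hk₀ n' (by
      rw [hn'q, Category.assoc, CharTorus15.comp_eq_one hk₀, MonObj.comp_one])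
    exact ⟨l, by rw [← Category.assoc n, hn', ← Category.assoc l, hl]⟩
  obtain ⟨Q₂, _, q₂, hq₂m, hq₂f, hq₂s, hq₂q, -, hk₂, hQ₂l, hQ₂q⟩ := AffPart25.exists_quotient_any (m₀ ≫ i) hn₀
  haveI := hq₂m; haveI := hq₂f; haveI := hq₂s; haveI := hq₂q; haveI := hQ₂l; haveI := hQ₂q
  have hi₂ : ∀ {W : Over (Spec (CommRingCat.of k))} (n : W ⟶ N), n ≫ q₁ = 1 → (n ≫ i) ≫ q₂ = 1 := fun n hn => by
    obtain ⟨c, rfl⟩ := CharTorus15.exists_lift hk₀ n hn
    rw [Category.assoc, Category.assoc, ← Category.assoc m₀, hk₂.w, ← Hom.one_def, MonObj.comp_one]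
  haveI : IsCommMonObj Q₂ := isCommMonObj_of_quot q₂ fun W a b => by
    obtain ⟨W₁, p, x, z, hp, hpx, hz⟩ := exists_central_cover i q hN hq a
    obtain ⟨W₂, p', y, w, hp', hpy, hw⟩ := exists_central_cover i q hN hq (p ≫ b)
    haveI := hp; haveI := hp'
    rw [← cancel_epi p, ← cancel_epi p', MonObj.comp_one, MonObj.comp_one, ← Category.assoc p, ← Category.assoc p']
    have hc : p' ≫ p ≫ (a * b * a⁻¹ * b⁻¹) = ((p' ≫ x) * y * (p' ≫ x)⁻¹ * y⁻¹) ≫ i := by
      simp only [MonObj.comp_mul, GrpObj.comp_inv, MonObj.mul_comp, GrpObj.inv_comp]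
      rw [hpx, hpy, MonObj.comp_mul, Category.assoc p' x i]
      have hZ := hz W₂ p'
      have hV : ∀ u : W₂ ⟶ G, w * u = u * w := fun u => by
        have := hw W₂ (𝟙 W₂) u
        rwa [Category.id_comp] at this
      calc (p' ≫ x ≫ i) * (p' ≫ z) * ((y ≫ i) * w) * ((p' ≫ x ≫ i) * (p' ≫ z))⁻¹ * ((y ≫ i) * w)⁻¹
          = (p' ≫ x ≫ i) * ((p' ≫ z) * ((y ≫ i) * w) * (p' ≫ z)⁻¹) * (p' ≫ x ≫ i)⁻¹ * (w⁻¹ * (y ≫ i)⁻¹) := by group
        _ = (p' ≫ x ≫ i) * ((y ≫ i) * w) * (p' ≫ x ≫ i)⁻¹ * (w⁻¹ * (y ≫ i)⁻¹) := by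
            rw [hZ, mul_inv_cancel_right]
        _ = (p' ≫ x ≫ i) * (y ≫ i) * (w * (p' ≫ x ≫ i)⁻¹ * w⁻¹) * (y ≫ i)⁻¹ := by group
        _ = _ := by rw [hV, mul_inv_cancel_right]
    rw [hc]
    refine hi₂ _ ?_
    rw [MonObj.mul_comp, MonObj.mul_comp, MonObj.mul_comp, GrpObj.inv_comp, GrpObj.inv_comp]
    letI := Hom.commMonoid (M := Q₁) (X := W₂)
    rw [_root_.mul_comm ((p' ≫ x) ≫ q₁), mul_inv_cancel_right, mul_inv_cancel]
  have hm₁ : m₀ ≫ (i ≫ q₂) = 1 := by rw [← Category.assoc]; exact hk₂.w.trans Hom.one_def.symm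
  obtain ⟨e, he, hem⟩ := AffPart25.exists_desc_hom m₀ q₁ hk₀ (i ≫ q₂) hm₁
  haveI := hem
  obtain ⟨σ, _, s, pσ, hs, hsc, hσ, hpσ, hpσs, hpe⟩ := Semiab15.exists_image_torus hQ₁T e
  haveI := hs; haveI := hsc
  haveI : QuasiCompact q.left := AlgGrpBasic19.quasiCompact_left q
  haveI : Smooth Q₂.hom := AffQuot19.smooth_target G Q₂ q₂
  have hSA₂ : SAQuot15.IsSAExt Q₂ := Semiab15.isSA_of_torus (A := A) hσ s fun V _ π _ _ hsπ => by
    obtain ⟨v, hv, -⟩ := AffPart25.exists_desc_hom i q hq (q₂ ≫ π) (by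
      rw [← Category.assoc i, ← he, ← hpe, Category.assoc, Category.assoc, hsπ, MonObj.comp_one, MonObj.comp_one])
    haveI : Surjective (q.left ≫ v.left) := by rw [← Over.comp_left, hv, Over.comp_left]; infer_instance
    exact ⟨v, Surjective.of_comp q.left v.left⟩
  obtain ⟨C, _, c, hcm, hcc, hcn, hCs, hCc, ⟨V, _, rV, hr, hrs, hrf, hker, hV⟩, hc1, -⟩ :=
    SAQuot15.exists_inf hSA₂ hSA₂ q₂ q₂
  haveI := hcm; haveI := hcc; haveI := hr; haveI := hrs; haveI := hrf
  obtain ⟨f, hf⟩ := hHmin C c V rV hcn hCs hCc hker hV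
  obtain ⟨y, hy⟩ := CharTorus15.exists_lift hk₂ h (by rw [← hf, Category.assoc, hc1, MonObj.comp_one])
  have hgy : g = y ≫ m₀ := by rw [← cancel_mono i, Category.assoc, hg, hy]
  have hgq : g ≫ q₁ = 1 := by rw [hgy, Category.assoc, CharTorus15.comp_eq_one hk₀, MonObj.comp_one]
  obtain ⟨Kt, _, κ, hκm, hκc, hkκ⟩ := CharTorus15.exists_kernel (t ≫ r ≫ q₁)
  haveI := hκm; haveI := hκc
  haveI : Mono κ := Over.mono_of_mono_left κ
  obtain ⟨hTl, hTq, -, -⟩ := Semiab15.torus_props hT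
  haveI := hTl; haveI := hTq
  haveI : LocallyOfFiniteType Kt.hom := by rw [← Over.w κ]; infer_instance
  haveI : QuasiCompact Kt.hom := by rw [← Over.w κ]; infer_instance
  haveI : IsFinite Kt.hom := finite_inter r ha haK d (hDK K _) q₁ (fun W x hx => by
    obtain ⟨W', p, z, w, hp, hpl, hpx⟩ := hrange W x hx
    exact ⟨W', p, z, w, hp, hpl, by rw [hpx, Category.comp_id a]⟩)
    hRs hRn t hT κ (CharTorus15.comp_eq_one hkκ)
  obtain ⟨l, hl⟩ := CharTorus15.exists_lift hkκ p₁ (by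
    rw [← Category.assoc t, ← Category.assoc, hP.w, Category.assoc, hgq, MonObj.comp_one])
  haveI : IsClosedImmersion (g.left ≫ i.left) := by rw [← Over.comp_left, hg]; infer_instance
  haveI : IsClosedImmersion g.left := IsClosedImmersion.of_comp g.left i.left
  haveI : IsClosedImmersion p₁.left :=
    MorphismProperty.of_isPullback (P := @IsClosedImmersion) (hP.map (Over.forget _)).flip ‹IsClosedImmersion g.left›
  haveI : IsClosedImmersion (l.left ≫ κ.left) := by rw [← Over.comp_left, hl]; infer_instance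
  haveI : IsClosedImmersion l.left := IsClosedImmersion.of_comp l.left κ.left
  rw [← Over.w l]
  infer_instance

end Groth.Agent.RadBC15
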