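import Groth.Agent.Lib.RadBC15.QuasiCompl
import Groth.Agent.Lib.Semiab15.Main
import Groth.Agent.Lib.GrpUnr20.Basic
import Groth.Agent.Lib.AttrBorel21.TorusGen
import Groth.Agent.S14600

/-!
# The semi-abelian quasi-complement `T·G_ant`
-/

set_option autoImplicit false
set_option linter.style.haveILetI false
set_option backward.isDefEq.respectTransparency false
set_option backward.isDefEq.respectTransparency.types false
set_option maxSynthPendingDepth 3
set_option synthInstance.maxHeartbeats 400000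
universe u

open CategoryTheory CategoryTheory.Limits MonoidalCategory CartesianMonoidalCategory MonObj AlgebraicGeometry
open Groth.Agent

noncomputable section

namespace Groth.Agent.RadBC15

variable {k : Type u} [Field k]

local notation "π₀" => Spec.map (CommRingCat.ofHom (algebraMap k (AlgebraicClosure k)))

/-- An affine group mapping to a proper one with finite kernel is finite. -/
theorem isFinite_of_kernel_finite {P B Kp : Over (Spec (CommRingCat.of k))} [GrpObj P] [GrpObj B] [GrpObj Kp]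
    [IsAffine P.left] [LocallyOfFiniteType P.hom] [IsProper B.hom] (p : P ⟶ B) [IsMonHom p] (κ : Kp ⟶ P)
    [IsMonHom κ] [IsClosedImmersion κ.left] (hκ : AlgGrp.IsKernel κ p) [IsFinite Kp.hom] : IsFinite P.hom := by
  haveI : QuasiCompact P.hom := inferInstance
  haveI : Mono κ := Over.mono_of_mono_left κ
  haveI := CharTorus15.mono_of_isKernel hκ
  obtain ⟨F, _, q, hqm, hqf, hqs, hqq, hqp, hk, hFl, hFq⟩ :=
    AffPart25.exists_quotient_any κ (CharTorus15.isNormal_of_isKernel hκ)
  haveI := hqm; haveI := hqf; haveI := hqs; haveI := hqq; haveI := hFl; haveI := hFq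
  obtain ⟨d, hd, hdm⟩ := AffPart25.exists_desc_hom κ q hk p (hκ.w.trans Hom.one_def.symm)
  haveI := hdm
  haveI : Mono d := AffPart25.mono_desc κ q hk p hκ d hd
  haveI : IsClosedImmersion d.left := Semiab15.isClosedImmersion_of_trivial_kernel d
  haveI : IsAffine F.left := AffQuot19.isAffine_target P F q
  haveI : IsProper (d.left ≫ B.hom) := inferInstance
  haveI : IsProper F.hom := by rw [← Over.w d]; infer_instance
  haveI : IsFinite F.hom := IsFinite.iff_isProper_and_isAffineHom.2 ⟨inferInstance, inferInstance⟩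
  haveI : LocallyOfFiniteType q.left := AlgGrpBasic19.lft_left q
  haveI : LocallyQuasiFinite q.left := GrpUnr20.locallyQuasiFinite_of_kernel q κ hk inferInstance
  haveI : LocallyQuasiFinite (q.left ≫ F.hom) := inferInstance
  haveI : LocallyQuasiFinite P.hom := by rw [← Over.w q]; infer_instance
  haveI : Finite ↥P.left := by
    have h := (P.hom.finite_preimage_singleton (IsLocalRing.closedPoint k))
    rw [show (P.hom : P.left → _) ⁻¹' {IsLocalRing.closedPoint k} = Set.univ from
      Set.eq_univ_of_forall fun z => Subsingleton.elim (α := PrimeSpectrum k) _ _] at h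
    exact Set.finite_univ_iff.1 h
  exact DegRank.isFinite_of_finite P.hom

/-- Being an isomorphism may be checked over the algebraic closure. -/
theorem isIso_of_bc {X Y : Over (Spec (CommRingCat.of k))} (f : X ⟶ Y) (h : IsIso ((Over.pullback π₀).map f)) :
    IsIso f := by
  haveI := h
  haveI : IsIso ((Over.pullback π₀).map f).left :=
    inferInstanceAs (IsIso ((Over.forget _).map ((Over.pullback π₀).map f)))
  haveI : Surjective π₀ := ⟨fun z => ⟨IsLocalRing.closedPoint _, Subsingleton.elim (α := PrimeSpectrum k) _ _⟩⟩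
  haveI : IsIso f.left := MorphismProperty.of_isPullback_of_descendsAlong
    (P := MorphismProperty.isomorphisms Scheme) (Q := @Surjective ⊓ @Flat ⊓ @QuasiCompact)
    (MTRigid29.isPullback_map_left π₀ f).flip ⟨⟨inferInstance, inferInstance⟩, inferInstance⟩ ‹_›
  haveI : IsIso ((Over.forget _).map f) := ‹IsIso f.left›
  exact isIso_of_reflects_iso f (Over.forget _)

/-- Central tori of the affine part lie in every maximal torus of the radical. -/
theorem exists_lift_torus {G N R T σ : Over (Spec (CommRingCat.of k))} [GrpObj G] [GrpObj N] [GrpObj R] [GrpObj T]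
    [GrpObj σ] [LocallyOfFiniteType N.hom] (i : N ⟶ G) [IsMonHom i] [Mono i]
    (r : R ⟶ N) [IsMonHom r] [IsClosedImmersion r.left]
    (hRmax : ∀ (R₁ : Over (Spec (CommRingCat.of k))) [GrpObj R₁] (r₁ : R₁ ⟶ N) [IsMonHom r₁] [IsClosedImmersion r₁.left],
      Smooth R₁.hom → ConnectedSpace ↥R₁.left → Red.IsSolvableGrp R₁ → AlgGrp.IsNormalHom r₁ → ∃ f : R₁ ⟶ R, f ≫ r = r₁)
    {t : T ⟶ R} (hT : Red.IsMaximalTorus t) (hσ : Red.IsTorus σ) (c : σ ⟶ N) [IsMonHom c] [IsClosedImmersion c.left]
    (hc : ∀ (X : Over (Spec (CommRingCat.of k))) (x : X ⟶ σ) (y : X ⟶ G), (x ≫ c ≫ i) * y = y * (x ≫ c ≫ i)) :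
    ∃ f : σ ⟶ T, f ≫ t ≫ r = c := by
  obtain ⟨-, hσs, hσc, hσsol⟩ :=
    (⟨trivial, (TorPts21.smooth_connected_of_isTorus hσ).1, (TorPts21.smooth_connected_of_isTorus hσ).2,
      TorPts21.isSolvableGrp_of_comm σ fun X a b => by
        haveI := (Semiab15.torus_props hσ).2.2.2
        letI := Hom.commMonoid (M := σ) (X := X)
        exact _root_.mul_comm a b⟩ : True ∧ Smooth σ.hom ∧ ConnectedSpace σ.left ∧ Red.IsSolvableGrp σ)
  have hcn : AlgGrp.IsNormalHom c := fun X g x => ⟨x, by
    rw [← cancel_mono i, MonObj.mul_comp, MonObj.mul_comp, GrpObj.inv_comp, Category.assoc, ← hc, mul_inv_cancel_right]⟩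
  obtain ⟨fR, hfR⟩ := hRmax σ c hσs hσc hσsol hcn
  haveI : Mono r := Over.mono_of_mono_left r
  haveI : LocallyOfFiniteType R.hom := by rw [← Over.w r]; infer_instance
  haveI := hT.1
  haveI : IsMonHom fR := BorelFix21.isMonHom_of_comp r fR (hfR ▸ inferInstance)
  let P := Over.pullback π₀
  haveI : LocallyOfFiniteType (Red.bc π₀ R).hom := inferInstanceAs (LocallyOfFiniteType (pullback.snd _ π₀))
  obtain ⟨Q, _, m, f₁, f₂, hm, hmm, hQ, h₁, h₂⟩ := AttrBorel21.exists_torus_ge_of_commute
    (TorPts21.isTorus_bc π₀ hT.2.2.1) (TorPts21.isTorus_bc π₀ hσ) (P.map t) (P.map fR)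
    fun X x y => DiagGL.fl_injective π₀ R (by
      rw [DiagGL.fl_mul, DiagGL.fl_mul, DiagGL.fl_comp_map, DiagGL.fl_comp_map]
      refine (cancel_mono (r ≫ i)).1 ?_
      rw [MonObj.mul_comp, MonObj.mul_comp, Category.assoc (DiagGL.fl π₀ σ y), ← Category.assoc fR, hfR]
      exact (hc _ (DiagGL.fl π₀ σ y) _).symm)
  haveI := hm; haveI := hmm
  haveI : IsIso f₁ := (isMaxTorus_algClosure hT).2.2.2 Q m f₁ hQ h₁
  haveI : Mono t := hT.2.1
  haveI : Surjective π₀ := ⟨fun z => ⟨IsLocalRing.closedPoint _, Subsingleton.elim (α := PrimeSpectrum k) _ _⟩⟩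
  obtain ⟨f, hf⟩ := SepAff15.exists_factor_of_bc π₀ fR t (f₂ ≫ inv f₁) (by
    rw [Category.assoc, show (Over.pullback π₀).map t = f₁ ≫ m from h₁.symm, IsIso.inv_hom_id_assoc]
    exact h₂)
  exact ⟨f, by rw [← Category.assoc, hf, hfR]⟩

end Groth.Agent.RadBC15
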